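import Mathlib

/-!
# The arithmetic contradiction

`P`, `Q` and the four `D j` are the coefficient vectors on the principal block of the functions
`1 - λ₁`, `ζ - λ₁ - λ₂ - λ₃ - λ₄` and `λ₁ - λⱼ`; they determine the values at an involution and the sums
over the Sylow subgroup, and with the congruence modulo 64 these keep `∑ d³/f` below 7.
-/

set_option autoImplicit false
set_option linter.style.haveILetI false

open Finset

namespace Cfsg.Agent.TwoNilCent.U34

variable {ι : Type*} [DecidableEq ι]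

/-- Entries with squares summing to two. -/
theorem exists_two_supp {s : Finset ι} {v : ι → ℤ} (h : ∑ x ∈ s, v x * v x = 2) :
    ∃ a ∈ s, ∃ b ∈ s, a ≠ b ∧ (v a = 1 ∨ v a = -1) ∧ (v b = 1 ∨ v b = -1) ∧
      ∀ x ∈ s, x ≠ a → x ≠ b → v x = 0 := by
  classical
  have hone : ∀ x ∈ s, v x ≠ 0 → v x = 1 ∨ v x = -1 := fun x hx hne => by
    have := single_le_sum (f := fun x => v x * v x) (fun y _ => mul_self_nonneg (v y)) hx
    rw [h] at this
    have h1 : -1 ≤ v x := by nlinarith
    have h2 : v x ≤ 1 := by nlinarith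
    omega
  have hcard : ((s.filter fun x => v x ≠ 0).card : ℤ) = 2 := by
    rw [← h, card_filter, Nat.cast_sum]
    refine sum_congr rfl fun x hx => ?_
    by_cases h0 : v x = 0
    · simp [h0]
    · rcases hone x hx h0 with e | e <;> simp [e]
  obtain ⟨a, b, hab, he⟩ := card_eq_two.1 (Nat.cast_inj.1 hcard)
  have ha : a ∈ s.filter fun x => v x ≠ 0 := by rw [he]; simp
  have hb : b ∈ s.filter fun x => v x ≠ 0 := by rw [he]; simp
  rw [mem_filter] at ha hb
  refine ⟨a, ha.1, b, hb.1, hab, hone a ha.1 ha.2, hone b hb.1 hb.2, fun x hx hxa hxb => ?_⟩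
  by_contra hne
  have : x ∈ s.filter fun x => v x ≠ 0 := mem_filter.2 ⟨hx, hne⟩
  rw [he] at this
  simp [hxa, hxb] at this

omit [DecidableEq ι] in
theorem bounds_of_mul_self_le {a k : ℤ} (hk : 0 ≤ k) (h : a * a ≤ k * k) : -k ≤ a ∧ a ≤ k := by
  constructor <;> nlinarith

variable [Fintype ι]

/-- A norm two vector orthogonal to the degrees is a difference of two unit vectors. -/
theorem exists_diff {f v : ι → ℤ} (hf : ∀ x, 1 ≤ f x) (h2 : ∑ x, v x * v x = 2)
    (hvf : ∑ x, v x * f x = 0) :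
    ∃ p q, p ≠ q ∧ ∀ x, v x = (if x = p then 1 else 0) - (if x = q then 1 else 0) := by
  obtain ⟨a, -, b, -, hab, ha, hb, h0⟩ := exists_two_supp (s := univ) h2
  have hs : ∑ x, v x * f x = v a * f a + v b * f b :=
    Fintype.sum_eq_add a b hab fun x hx => by rw [h0 x (mem_univ x) hx.1 hx.2, zero_mul]
  rw [hvf] at hs
  have hfa := hf a
  have hfb := hf b
  rcases ha with ha | ha <;> rcases hb with hb | hb <;> rw [ha, hb] at hs
  · omega
  · refine ⟨a, b, hab, fun x => ?_⟩
    by_cases hxa : x = a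
    · simp [hxa, ha, hab]
    · by_cases hxb : x = b
      · simp [hxb, hb, hab.symm]
      · simp [hxa, hxb, h0 x (mem_univ x) hxa hxb]
  · refine ⟨b, a, hab.symm, fun x => ?_⟩
    by_cases hxa : x = a
    · simp [hxa, ha, hab]
    · by_cases hxb : x = b
      · simp [hxb, hb, hab.symm]
      · simp [hxa, hxb, h0 x (mem_univ x) hxa hxb]
  · omega

omit [DecidableEq ι] [Fintype ι] in
theorem term_le {d f : ℤ} {a b : ℕ} (hf : 1 ≤ f) (hb : 0 < b)
    (h : d ≤ 0 ∨ (d ^ 3 ≤ a ∧ (b : ℤ) ≤ f)) : (d : ℝ) ^ 3 / f ≤ (a : ℝ) / b := by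
  have hfR : (0 : ℝ) < f := by exact_mod_cast hf
  have hbR : (0 : ℝ) < b := by exact_mod_cast hb
  rcases h with h | ⟨h1, h2⟩
  · refine le_trans ?_ (by positivity : (0 : ℝ) ≤ (a : ℝ) / b)
    refine div_nonpos_of_nonpos_of_nonneg ?_ hfR.le
    rw [show (d : ℝ) ^ 3 = (d : ℝ) * (d : ℝ) ^ 2 by ring]
    exact mul_nonpos_of_nonpos_of_nonneg (Int.cast_nonpos.2 h) (sq_nonneg _)
  · have h1' : (d : ℝ) ^ 3 ≤ (a : ℝ) := by exact_mod_cast h1
    exact div_le_div₀ (by positivity) h1' hbR (by exact_mod_cast h2)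

/-- The hypotheses. -/
structure Table (T : ι) (f P Q : ι → ℤ) (D : Fin 4 → ι → ℤ) : Prop where
  fpos : ∀ x, 1 ≤ f x
  fT : f T = 1
  PT : P T = 1
  QT : Q T = 0
  DT : ∀ j, D j T = 0
  PP : ∑ x, P x * P x = 4
  QQ : ∑ x, Q x * Q x = 5
  PQ : ∑ x, P x * Q x = 1
  PD : ∀ j, ∑ x, P x * D j x = -1
  QD : ∀ j, ∑ x, Q x * D j x = if j = 3 then -1 else 0
  DD : ∀ j k, ∑ x, D j x * D k x = if j = k then 2 else 1
  Df : ∀ j, ∑ x, D j x * f x = 0

/-- The value at the involution. -/
def dval (P Q : ι → ℤ) (D : Fin 4 → ι → ℤ) (x : ι) : ℤ :=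
  P x - 4 * Q x + (D 0 x + D 1 x + D 2 x) - 3 * D 3 x

/-- The sum over the Sylow subgroup. -/
def sval (P Q : ι → ℤ) (D : Fin 4 → ι → ℤ) (x : ι) : ℤ :=
  63 * P x - 12 * Q x + 15 * (D 0 x + D 1 x + D 2 x) + 3 * D 3 x

variable {T : ι} {f P Q : ι → ℤ} {D : Fin 4 → ι → ℤ}

/-- The shape of the `D j`. -/
theorem Table.exists_star (h : Table T f P Q D) :
    ∃ (ε : ℤ) (X : Fin 5 → ι), (ε = 1 ∨ ε = -1) ∧ Function.Injective X ∧ (∀ i, X i ≠ T) ∧
      ∀ (j : Fin 4) x, D j x = ε * ((if x = X 0 then 1 else 0) - (if x = X j.succ then 1 else 0)) := by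
  classical
  choose p q hpq hD using fun j => exists_diff h.fpos (by rw [h.DD j j, if_pos rfl]) (h.Df j)
  have hpair : ∀ j k, j ≠ k → (p j = p k ∧ q j ≠ q k) ∨ (q j = q k ∧ p j ≠ p k) := by
    intro j k hjk
    have e := h.DD j k
    rw [if_neg hjk, show (fun x => D j x * D k x) = fun x =>
        (if x = p j then D k x else 0) - (if x = q j then D k x else 0) by
      funext x; rw [hD j x, sub_mul, ite_mul, ite_mul, one_mul, zero_mul]] at e
    simp only [sum_sub_distrib, sum_ite_eq', mem_univ, if_true, hD k] at e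
    by_cases h1 : p j = p k
    · refine Or.inl ⟨h1, fun h2 => ?_⟩
      have h3 : p j ≠ q k := h1.trans_ne (hpq k)
      have h4 : q j ≠ p k := fun h4 => hpq j (h1.trans h4.symm)
      rw [if_pos h1, if_neg h3, if_neg h4, if_pos h2] at e
      omega
    · by_cases h2 : q j = q k
      · exact Or.inr ⟨h2, h1⟩
      · rw [if_neg h1, if_neg h2] at e
        split_ifs at e <;> omega
  have key : ∀ (ε : ℤ), ε = 1 ∨ ε = -1 → ∀ (p q : Fin 4 → ι), (∀ j, p j = p 0) →
      (∀ j, p j ≠ q j) → (∀ j k, j ≠ k → q j ≠ q k) →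
      (∀ j x, D j x = ε * ((if x = p j then 1 else 0) - (if x = q j then 1 else 0))) →
      ∃ (ε : ℤ) (X : Fin 5 → ι), (ε = 1 ∨ ε = -1) ∧ Function.Injective X ∧ (∀ i, X i ≠ T) ∧
        ∀ (j : Fin 4) x,
          D j x = ε * ((if x = X 0 then 1 else 0) - (if x = X j.succ then 1 else 0)) := by
    intro ε hε p q hp hpq hqq hD
    refine ⟨ε, Fin.cons (p 0) q, hε, ?_, ?_, fun j x => by
      rw [Fin.cons_zero, Fin.cons_succ, hD, hp j]⟩
    · rw [Fin.cons_injective_iff]
      refine ⟨fun hm => ?_, fun j k e => by_contra fun hne => hqq j k hne e⟩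
      obtain ⟨j, hj⟩ := hm
      exact hpq j (by rw [hp j, hj])
    · intro i e
      induction i using Fin.cases with
      | zero =>
        rw [Fin.cons_zero] at e
        have h1 := hD 0 T
        rw [h.DT, ← e, if_pos rfl, if_neg (hpq 0)] at h1
        omega
      | succ j =>
        rw [Fin.cons_succ] at e
        have h1 := hD j T
        rw [h.DT, ← e, if_pos rfl, if_neg (hpq j).symm] at h1
        omega
  rcases hpair 0 1 (by decide) with ⟨h01, h01'⟩ | ⟨h01, h01'⟩
  · have hp : ∀ j, p j = p 0 := by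
      intro j
      by_cases hj : j = 0
      · rw [hj]
      by_cases hj1 : j = 1
      · rw [hj1, h01]
      rcases hpair j 0 hj with ⟨e, -⟩ | ⟨e, e'⟩
      · exact e
      · rcases hpair j 1 hj1 with ⟨e1, -⟩ | ⟨e1, -⟩
        · exact e1.trans h01.symm
        · exact absurd (e.symm.trans e1) h01'
    refine key 1 (Or.inl rfl) p q hp hpq (fun j k hjk => ?_) fun j x => by rw [one_mul, hD]
    rcases hpair j k hjk with ⟨-, e⟩ | ⟨-, e⟩
    · exact e
    · exact absurd ((hp j).trans (hp k).symm) e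
  · have hq : ∀ j, q j = q 0 := by
      intro j
      by_cases hj : j = 0
      · rw [hj]
      by_cases hj1 : j = 1
      · rw [hj1, h01]
      rcases hpair j 0 hj with ⟨e, -⟩ | ⟨e, -⟩
      · rcases hpair j 1 hj1 with ⟨e1, -⟩ | ⟨e1, -⟩
        · exact absurd (e.symm.trans e1) h01'
        · exact e1.trans h01.symm
      · exact e
    refine key (-1) (Or.inr rfl) q p hq (fun j => (hpq j).symm) (fun j k hjk => ?_)
      fun j x => by rw [hD]; ring
    rcases hpair j k hjk with ⟨-, e⟩ | ⟨-, e⟩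
    · exact absurd ((hq j).trans (hq k).symm) e
    · exact e

set_option maxHeartbeats 1000000 in
/-- The contradiction. -/
theorem Table.false_of (h : Table T f P Q D) (hcong : ∀ x, (64 : ℤ) ∣ f x + sval P Q D x)
    (hlt : ∀ x, x ≠ T → |dval P Q D x| < f x)
    (hR : (7 : ℝ) ≤ ∑ x, (dval P Q D x : ℝ) ^ 3 / f x) : False := by
  classical
  obtain ⟨ε, X, hε, hXi, hXT, hD⟩ := h.exists_star
  have hne : ∀ {i k : Fin 5}, i ≠ k → X i ≠ X k := fun hik e => hik (hXi e)
  -- the values of `D` at the `X i`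
  have hD0 : ∀ j, D j (X 0) = ε := fun j => by
    rw [hD, if_pos rfl, if_neg (hne (Fin.succ_ne_zero j).symm)]; ring
  have hDj : ∀ j k : Fin 4, D j (X k.succ) = if j = k then -ε else 0 := fun j k => by
    rw [hD, if_neg (hne (Fin.succ_ne_zero k))]
    by_cases hjk : j = k
    · subst hjk; simp
    · rw [if_neg hjk, if_neg (hne fun e => hjk (Fin.succ_injective _ e).symm)]; ring
  have hDz : ∀ x, (∀ i, x ≠ X i) → ∀ j, D j x = 0 := fun x hx j => by
    rw [hD, if_neg (hx 0), if_neg (hx _)]; ring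
  have hvD : ∀ (v : ι → ℤ) j, ∑ x, v x * D j x = ε * (v (X 0) - v (X j.succ)) := fun v j => by
    simp only [hD, mul_sub, mul_ite, mul_one, mul_zero, sum_sub_distrib, sum_ite_eq', mem_univ,
      if_true]
    ring
  -- splitting off `T` and the `X i`
  set E : Finset ι := insert T (univ.image X) with hE
  have hTX : T ∉ univ.image X := by
    simp only [mem_image, mem_univ, true_and, not_exists]
    exact fun i e => hXT i e
  have hsplit : ∀ g : ι → ℤ, ∑ x, g x =
      g T + (g (X 0) + g (X 1) + g (X 2) + g (X 3) + g (X 4)) + ∑ x ∈ Eᶜ, g x := fun g => by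
    rw [← sum_add_sum_compl E, hE, sum_insert hTX, sum_image (fun a _ b _ e => hXi e),
      Fin.sum_univ_five]
  -- `P`
  set c := P (X 0) with hc
  have hPX : ∀ j : Fin 4, P (X j.succ) = c + ε := fun j => by
    have e := h.PD j
    rw [hvD] at e
    rcases hε with rfl | rfl <;> omega
  have hPP := h.PP
  rw [hsplit, h.PT, ← hc, show (1 : Fin 5) = Fin.succ 0 from rfl, show (2 : Fin 5) = Fin.succ 1 from rfl,
    show (3 : Fin 5) = Fin.succ 2 from rfl, show (4 : Fin 5) = Fin.succ 3 from rfl,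
    hPX, hPX, hPX, hPX] at hPP
  have hPnn : 0 ≤ ∑ x ∈ Eᶜ, P x * P x := sum_nonneg fun x _ => mul_self_nonneg _
  have hce : c = -ε := by
    have h1 : 4 * ((c + ε) * (c + ε)) < 4 * 1 := by nlinarith [mul_self_nonneg c]
    have h2 : (c + ε) * (c + ε) < 1 := by linarith
    have h3 : (c + ε) * (c + ε) = 0 := by have := mul_self_nonneg (c + ε); omega
    have := mul_self_eq_zero.1 h3
    omega
  have hee : ε * ε = 1 := by rcases hε with rfl | rfl <;> rfl
  rw [hce, neg_add_cancel] at hPP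
  obtain ⟨A, hA, B, hB, hAB, hPA, hPB, hP0⟩ :=
    exists_two_supp (s := Eᶜ) (v := P) (by linarith)
  have hPXs : ∀ j : Fin 4, P (X j.succ) = 0 := fun j => by rw [hPX, hce, neg_add_cancel]
  have hout : ∀ x ∈ Eᶜ, (∀ i, x ≠ X i) ∧ x ≠ T := fun x hx => by
    simp only [hE, mem_compl, mem_insert, mem_image, mem_univ, true_and, not_or, not_exists] at hx
    exact ⟨fun i e => hx.2 i e.symm, hx.1⟩
  -- `Q`
  set m := Q (X 0) with hm
  have hQX : ∀ j : Fin 4, Q (X j.succ) = if j = 3 then m + ε else m := fun j => by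
    have e := h.QD j
    rw [hvD] at e
    split_ifs with hj
    · rw [if_pos hj] at e; rcases hε with rfl | rfl <;> omega
    · rw [if_neg hj] at e; rcases hε with rfl | rfl <;> omega
  have hAsub : B ∈ (Eᶜ).erase A := mem_erase.2 ⟨hAB.symm, hB⟩
  set rest := ((Eᶜ).erase A).erase B with hrest
  have hsplit' : ∀ g : ι → ℤ, ∑ x, g x =
      g T + (g (X 0) + g (X 1) + g (X 2) + g (X 3) + g (X 4)) + (g A + (g B + ∑ x ∈ rest, g x)) :=
    fun g => by rw [hsplit, ← add_sum_erase _ g hA, ← add_sum_erase _ g hAsub]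
  have hQQ := h.QQ
  have hPQ := h.PQ
  have hP0' : ∑ x ∈ rest, P x * Q x = 0 := sum_eq_zero fun x hx => by
    simp only [hrest, mem_erase] at hx
    rw [hP0 x hx.2.2 hx.2.1 hx.1, zero_mul]
  rw [hsplit', h.QT, ← hm, show (1 : Fin 5) = Fin.succ 0 from rfl,
    show (2 : Fin 5) = Fin.succ 1 from rfl, show (3 : Fin 5) = Fin.succ 2 from rfl,
    show (4 : Fin 5) = Fin.succ 3 from rfl, hQX, hQX, hQX, hQX] at hQQ
  rw [hsplit', h.PT, h.QT, ← hm, ← hc, hce, show (1 : Fin 5) = Fin.succ 0 from rfl,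
    show (2 : Fin 5) = Fin.succ 1 from rfl, show (3 : Fin 5) = Fin.succ 2 from rfl,
    show (4 : Fin 5) = Fin.succ 3 from rfl, hPXs, hPXs, hPXs, hPXs, hP0'] at hPQ
  simp only [show (0 : Fin 4) ≠ 3 by decide, show (1 : Fin 4) ≠ 3 by decide,
    show (2 : Fin 4) ≠ 3 by decide, if_false, if_true] at hQQ
  have hrnn : 0 ≤ ∑ x ∈ rest, Q x * Q x := sum_nonneg fun x _ => mul_self_nonneg _
  -- the bound
  have hbound : ∀ (cX cA cB : ℝ) (k : ℤ), ∑ x ∈ rest, Q x * Q x ≤ k → k ≤ 3 →
      (∀ i, (dval P Q D (X i) : ℝ) ^ 3 / f (X i) ≤ cX) →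
      (dval P Q D A : ℝ) ^ 3 / f A ≤ cA → (dval P Q D B : ℝ) ^ 3 / f B ≤ cB →
      (7 : ℝ) ≤ 1 + 5 * cX + cA + cB + 64 / 52 * k := by
    intro cX cA cB k hk hk3 hcX hcA hcB
    set g : ι → ℝ := fun x => (dval P Q D x : ℝ) ^ 3 / f x with hg
    have hsum : ∑ x, g x = g T + (∑ i, g (X i)) + (g A + (g B + ∑ x ∈ rest, g x)) := by
      rw [← sum_add_sum_compl E, hE, sum_insert hTX, sum_image (fun a _ b _ e => hXi e), ← hE,
        ← add_sum_erase _ g hA, ← add_sum_erase _ g hAsub]
    have hgT : g T = 1 := by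
      simp only [hg, dval, h.PT, h.QT, h.DT, h.fT]
      norm_num
    have hgr : ∑ x ∈ rest, g x ≤ ∑ x ∈ rest, (64 / 52 : ℝ) * (Q x * Q x : ℤ) := by
      refine sum_le_sum fun x hx => ?_
      have hle : Q x * Q x ≤ 3 :=
        ((single_le_sum (f := fun x => Q x * Q x) (fun y _ => mul_self_nonneg _) hx).trans hk).trans hk3
      have hx' := hx
      simp only [hrest, mem_erase] at hx'
      have hd : dval P Q D x = -4 * Q x := by
        simp only [dval, hP0 x hx'.2.2 hx'.2.1 hx'.1, hDz x (hout x hx'.2.2).1]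
        ring
      have hs : sval P Q D x = -12 * Q x := by
        simp only [sval, hP0 x hx'.2.2 hx'.2.1 hx'.1, hDz x (hout x hx'.2.2).1]
        ring
      have hcx := hcong x
      rw [hs] at hcx
      have h1 : -1 ≤ Q x := by nlinarith
      have h2 : Q x ≤ 1 := by nlinarith
      have hfx := h.fpos x
      simp only [hg, hd]
      rcases (show Q x = -1 ∨ Q x = 0 ∨ Q x = 1 by omega) with e | e | e <;> rw [e] at hcx ⊢
      · refine le_trans (term_le (a := 64) (b := 52) hfx (by norm_num)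
          (Or.inr ⟨by norm_num, by omega⟩)) (le_of_eq ?_)
        norm_num
      · norm_num
      · refine le_trans (term_le (a := 0) (b := 1) hfx Nat.one_pos (Or.inl (by norm_num))) ?_
        norm_num
    rw [← mul_sum, ← Int.cast_sum] at hgr
    have hkR : ((∑ x ∈ rest, Q x * Q x : ℤ) : ℝ) ≤ (k : ℝ) := by exact_mod_cast hk
    have h5 : ∑ i, g (X i) ≤ 5 * cX := by
      refine le_trans (sum_le_sum fun i _ => hcX i) (le_of_eq ?_)
      rw [sum_const, card_univ, Fintype.card_fin, nsmul_eq_mul]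
      norm_num
    have : g A ≤ cA := hcA
    have : g B ≤ cB := hcB
    have hR' : (7 : ℝ) ≤ ∑ x, g x := hR
    rw [hsum, hgT] at hR'
    linarith
  have hdA : ∀ x ∈ Eᶜ, dval P Q D x = P x - 4 * Q x ∧ sval P Q D x = 63 * P x - 12 * Q x :=
    fun x hx => by constructor <;> simp [dval, sval, hDz x (hout x hx).1]
  -- `x = X i`
  have hX : ∀ i : Fin 5, (m = 0 → dval P Q D (X i) = -ε ∧ sval P Q D (X i) = -15 * ε) ∧
      (m = -ε → dval P Q D (X i) = 3 * ε ∧ sval P Q D (X i) = -3 * ε) := by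
    intro i
    induction i using Fin.cases with
    | zero =>
      constructor <;> intro hm0 <;> constructor <;>
        simp only [dval, sval, hD0, ← hc, ← hm, hce, hm0] <;> ring
    | succ k =>
      constructor <;> intro hm0 <;> constructor <;>
        simp only [dval, sval, hDj, hPXs, hQX, hm0] <;> fin_cases k <;>
        simp [Fin.ext_iff] <;> ring
  have hfB : ∀ x ∈ Eᶜ, Q x = 0 → (P x = 1 ∨ P x = -1) →
      (dval P Q D x : ℝ) ^ 3 / f x ≤ 1 / 63 := by
    intro x hx hQ hP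
    obtain ⟨hd, hs⟩ := hdA x hx
    have hcx := hcong x
    have hl := hlt x (hout x hx).2
    rw [hs, hQ] at hcx
    rw [hd, hQ] at hl ⊢
    have hfx := h.fpos x
    rcases hP with e | e <;> rw [e] at hcx hl ⊢
    · norm_num at hl
      exact le_trans (term_le (a := 1) (b := 65) hfx (by norm_num)
        (Or.inr ⟨by norm_num, by omega⟩)) (by norm_num)
    · exact le_trans (term_le (a := 0) (b := 1) hfx Nat.one_pos (Or.inl (by norm_num))) (by norm_num)
  have hmcases : m = 0 ∨ m = -ε := by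
    have h1 : 4 * (m * m) + (m + ε) * (m + ε) ≤ 5 := by
      nlinarith [mul_self_nonneg (Q A), mul_self_nonneg (Q B)]
    have h2 : -1 ≤ m := by nlinarith [mul_self_nonneg (m + ε)]
    have h3 : m ≤ 1 := by nlinarith [mul_self_nonneg (m + ε)]
    rcases hε with rfl | rfl <;> rcases (show m = -1 ∨ m = 0 ∨ m = 1 by omega) with e | e | e <;>
      rw [e] at h1 ⊢ <;> omega
  rcases hmcases with hm0 | hm0
  · -- first case
    rw [hm0] at hQQ hPQ
    simp only [mul_zero, zero_add, add_zero, hee] at hQQ hPQ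
    have hXb : ∀ i, (dval P Q D (X i) : ℝ) ^ 3 / f (X i) ≤ 1 / 49 := by
      intro i
      obtain ⟨hd, hs⟩ := (hX i).1 hm0
      have hcx := hcong (X i)
      rw [hs] at hcx
      rw [hd]
      have hfx := h.fpos (X i)
      rcases hε with e | e <;> rw [e] at hcx ⊢
      · exact le_trans (term_le (a := 0) (b := 1) hfx Nat.one_pos (Or.inl (by norm_num))) (by norm_num)
      · exact le_trans (term_le (a := 1) (b := 49) hfx (by norm_num)
          (Or.inr ⟨by norm_num, by omega⟩)) (by norm_num)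
    have hfA : ∀ x ∈ Eᶜ, Q x = P x → (P x = 1 ∨ P x = -1) →
        (dval P Q D x : ℝ) ^ 3 / f x ≤ 27 / 51 := by
      intro x hx hQ hP
      obtain ⟨hd, hs⟩ := hdA x hx
      have hcx := hcong x
      rw [hs, hQ] at hcx
      rw [hd, hQ]
      have hfx := h.fpos x
      rcases hP with e | e <;> rw [e] at hcx ⊢
      · exact le_trans (term_le (a := 0) (b := 1) hfx Nat.one_pos (Or.inl (by norm_num))) (by norm_num)
      · exact le_trans (term_le (a := 27) (b := 51) hfx (by norm_num)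
          (Or.inr ⟨by norm_num, by omega⟩)) (by norm_num)
    have hAle : -2 ≤ Q A ∧ Q A ≤ 2 ∧ -2 ≤ Q B ∧ Q B ≤ 2 := by
      have := mul_self_nonneg (Q A)
      have := mul_self_nonneg (Q B)
      obtain ⟨a1, a2⟩ := bounds_of_mul_self_le (a := Q A) (k := 2) zero_le_two (by linarith)
      obtain ⟨b1, b2⟩ := bounds_of_mul_self_le (a := Q B) (k := 2) zero_le_two (by linarith)
      exact ⟨a1, a2, b1, b2⟩
    have hopts : (Q A = P A ∧ Q B = 0) ∨ (Q A = 0 ∧ Q B = P B) := by
      obtain ⟨h1, h2, h3, h4⟩ := hAle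
      have hnorm : Q A * Q A + Q B * Q B ≤ 4 := by linarith
      rcases hPA with ea | ea <;> rcases hPB with eb | eb <;> rw [ea, eb] at hPQ ⊢ <;>
        interval_cases (Q A) <;> interval_cases (Q B) <;> omega
    have hk : ∑ x ∈ rest, Q x * Q x ≤ 3 := by
      rcases hopts with ⟨eA, eB⟩ | ⟨eA, eB⟩ <;> rw [eA, eB] at hQQ <;>
        rcases hPA with ea | ea <;> rcases hPB with eb | eb <;>
        simp only [ea, eb] at hQQ <;> linarith
    rcases hopts with ⟨eA, eB⟩ | ⟨eA, eB⟩
    · have := hbound _ _ _ 3 hk le_rfl hXb (hfA A hA eA hPA) (hfB B hB eB hPB)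
      norm_num at this
    · have := hbound _ _ _ 3 hk le_rfl hXb (hfB A hA eA hPA) (hfA B hB eB hPB)
      norm_num at this
  · -- second case
    rw [hm0] at hQQ hPQ
    simp only [neg_add_cancel, mul_zero, add_zero, zero_add, neg_mul_neg, hee] at hQQ hPQ
    have hzero : Q A = 0 ∧ Q B = 0 ∧ ∑ x ∈ rest, Q x * Q x ≤ 1 := by
      have hA2 := mul_self_nonneg (Q A)
      have hB2 := mul_self_nonneg (Q B)
      have h1 : Q A * Q A + Q B * Q B ≤ 1 := by linarith
      obtain ⟨hAlo, hAhi⟩ := bounds_of_mul_self_le (a := Q A) (k := 1) zero_le_one (by omega)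
      obtain ⟨hBlo, hBhi⟩ := bounds_of_mul_self_le (a := Q B) (k := 1) zero_le_one (by omega)
      refine ⟨?_, ?_, by linarith⟩ <;>
        rcases hPA with ea | ea <;> rcases hPB with eb | eb <;> rw [ea, eb] at hPQ <;>
        interval_cases (Q A) <;> interval_cases (Q B) <;> omega
    obtain ⟨eA, eB, hk⟩ := hzero
    have hXb : ∀ i, (dval P Q D (X i) : ℝ) ^ 3 / f (X i) ≤ 27 / 67 := by
      intro i
      obtain ⟨hd, hs⟩ := (hX i).2 hm0
      have hcx := hcong (X i)
      have hl := hlt (X i) (hXT i)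
      rw [hs] at hcx
      rw [hd] at hl ⊢
      have hfx := h.fpos (X i)
      rcases hε with e | e <;> rw [e] at hcx hl ⊢
      · norm_num at hl
        exact le_trans (term_le (a := 27) (b := 67) hfx (by norm_num)
          (Or.inr ⟨by norm_num, by omega⟩)) (by norm_num)
      · exact le_trans (term_le (a := 0) (b := 1) hfx Nat.one_pos (Or.inl (by norm_num))) (by norm_num)
    have := hbound _ _ _ 1 hk (by norm_num) hXb (hfB A hA eA hPA) (hfB B hB eB hPB)
    norm_num at this

end Cfsg.Agent.TwoNilCent.U34
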