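import Cfsg.Agent.Lib.SylL34.Fpf
import Cfsg.Agent.Lib.Char.Linear
import Cfsg.Agent.Lib.Char.KernelSum
import Cfsg.Agent.Lib.Char.Product
import Cfsg.Agent.Lib.Char.Generalized
import Cfsg.Agent.Lib.CharInt.Basic
import Cfsg.Agent.Lib.CharInt.Central

/-!
# The characters of a non-abelian group of order 64 with a fixed-point-free automorphism of order 3

Sixteen are linear and three have degree 4, vanishing outside the centre; the automorphism fixes
only the trivial one.
-/

set_option autoImplicit false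
set_option linter.style.haveILetI false
set_option linter.unusedSectionVars false

open Cfsg
open scoped ComplexConjugate commutatorElement

namespace Cfsg.Agent.TwoNilCent.U34

universe u

/-- A free action of order three has a set of representatives. -/
theorem exists_orbit_reps {α : Type*} [DecidableEq α] (σ : α → α) (hσ : ∀ a, σ (σ (σ a)) = a) :
    ∀ (k : ℕ) (s : Finset α), s.card = 3 * k → (∀ a ∈ s, σ a ∈ s) → (∀ a ∈ s, σ a ≠ a) →
      ∃ r : Fin k → α, (∀ j i, σ^[i] (r j) ∈ s) ∧
        Function.Injective (fun p : Fin k × Fin 3 => σ^[(p.2 : ℕ)] (r p.1)) := by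
  intro k
  induction k with
  | zero => exact fun s _ _ _ => ⟨Fin.elim0, fun j => j.elim0, fun p => p.1.elim0⟩
  | succ k ih =>
    intro s hs hclosed hfix
    obtain ⟨a, ha⟩ : s.Nonempty := Finset.card_pos.1 (by omega)
    have hinj : Function.Injective σ := fun x y e => by rw [← hσ x, ← hσ y, e]
    set o : Finset α := {a, σ a, σ (σ a)} with ho
    have hab : σ a ≠ a := hfix a ha
    have hcb : σ (σ a) ≠ σ a := fun e => hab (hinj e)
    have hca : σ (σ a) ≠ a := fun e => hab (by
      have := congrArg σ e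
      rw [hσ] at this
      exact this.symm)
    have hocard : o.card = 3 := by
      rw [ho, Finset.card_insert_of_notMem (by simp [hab.symm, hca.symm]), Finset.card_pair hcb.symm]
    have hos : o ⊆ s := by
      simp [ho, Finset.insert_subset_iff, ha, hclosed a ha, hclosed _ (hclosed a ha)]
    have hout : ∀ b ∈ s \ o, σ b ∈ s \ o := by
      intro b hb
      rw [Finset.mem_sdiff] at hb ⊢
      refine ⟨hclosed b hb.1, fun hmem => hb.2 ?_⟩
      simp only [ho, Finset.mem_insert, Finset.mem_singleton] at hmem ⊢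
      rcases hmem with h | h | h
      · exact Or.inr (Or.inr (hinj (h.trans (hσ a).symm)))
      · exact Or.inl (hinj h)
      · exact Or.inr (Or.inl (hinj h))
    obtain ⟨r, hr, hri⟩ := ih (s \ o) (by rw [Finset.card_sdiff_of_subset hos, hs, hocard]; omega) hout
      fun b hb => hfix b (Finset.mem_sdiff.1 hb).1
    have hiter : ∀ i, σ^[i] a ∈ o := by
      intro i
      induction i with
      | zero => simp [ho]
      | succ i hi =>
        rw [Function.iterate_succ_apply']
        simp only [ho, Finset.mem_insert, Finset.mem_singleton] at hi ⊢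
        rcases hi with h | h | h <;> simp [h, hσ]
    refine ⟨Fin.cases a r, fun j i => ?_, ?_⟩
    · induction j using Fin.cases with
      | zero => exact hos (hiter i)
      | succ j => exact (Finset.mem_sdiff.1 (hr j i)).1
    · rintro ⟨j, i⟩ ⟨j', i'⟩ e
      induction j using Fin.cases with
      | zero =>
        induction j' using Fin.cases with
        | zero =>
          fin_cases i <;> fin_cases i' <;> first
            | rfl
            | exact absurd e (by simp [hab, hab.symm, hcb, hcb.symm, hca, hca.symm])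
        | succ j' =>
          simp only [Fin.cases_zero, Fin.cases_succ] at e
          have h1 := hiter i
          rw [e] at h1
          exact absurd h1 (Finset.mem_sdiff.1 (hr j' i')).2
      | succ j =>
        induction j' using Fin.cases with
        | zero =>
          simp only [Fin.cases_zero, Fin.cases_succ] at e
          have h1 := hiter i'
          rw [← e] at h1
          exact absurd h1 (Finset.mem_sdiff.1 (hr j i)).2
        | succ j' =>
          obtain ⟨rfl, rfl⟩ := Prod.ext_iff.1 (@hri (j, i) (j', i') e)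
          rfl

variable {T : Type u} [Group T] [Fintype T] {ρ : MulAut T}

/-- A character composed with the automorphism. -/
noncomputable def rot (ρ : MulAut T) (χ : IrrCharacter T) : IrrCharacter T :=
  ⟨fun x => χ.1 (ρ x), Char.IsIrrCharacter.comp_mulEquiv χ.2 ρ⟩

theorem rot_apply (χ : IrrCharacter T) (x : T) : (rot ρ χ).1 x = χ.1 (ρ x) := rfl

theorem rot_iter_apply (χ : IrrCharacter T) (n : ℕ) (x : T) :
    ((rot ρ)^[n] χ).1 x = χ.1 ((ρ ^ n) x) := by
  induction n generalizing x with
  | zero => rfl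
  | succ n ih =>
    rw [Function.iterate_succ_apply', rot_apply, ih, pow_succ, MulAut.mul_apply]

theorem rot_cube (h : SylL34.Fpf T ρ) (χ : IrrCharacter T) : rot ρ (rot ρ (rot ρ χ)) = χ :=
  Subtype.ext (funext fun x => by simp only [rot_apply, h.three])

theorem commutator_eq_center (h : SylL34.Fpf T ρ) : commutator T = Subgroup.center T := by
  have hle : commutator T ≤ Subgroup.center T :=
    Subgroup.commutator_le.2 fun a _ b _ => h.comm_mem_center a b
  refine Subgroup.eq_of_le_of_card_ge hle ?_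
  have hinv : ∀ x ∈ commutator T, ρ x ∈ commutator T := fun x hx =>
    (Subgroup.characteristic_iff_map_le.1 (inferInstance : (commutator T).Characteristic) ρ) ⟨x, hx, rfl⟩
  have hm := SylL34.card_mod_three h.three h.fpf _ hinv
  have hd := Subgroup.card_dvd_of_le hle
  rw [h.card_center] at hd ⊢
  have h1 : Nat.card (commutator T) ≠ 1 := fun e => h.nonab ⟨⟨fun a b => by
    have := Subgroup.commutator_mem_commutator (Subgroup.mem_top a) (Subgroup.mem_top b)
    rw [← commutator_def, Subgroup.eq_bot_of_card_eq _ e, Subgroup.mem_bot] at this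
    exact commutatorElement_eq_one_iff_mul_comm.1 this⟩⟩
  have hle4 := Nat.le_of_dvd (by norm_num) hd
  unfold Nat.ModEq at hm
  interval_cases (Nat.card (commutator T)) <;> simp_all

theorem card_centralizer (h : SylL34.Fpf T ρ) {x : T} (hx : x ∉ Subgroup.center T) :
    Nat.card (Subgroup.centralizer ({x} : Set T)) = 16 := by
  let f : T →* Subgroup.center T :=
    MonoidHom.mk' (fun q => ⟨⁅x, q⁆, h.comm_mem_center x q⟩)
      fun a b => Subtype.ext (h.comm_mul_right x a b)
  have hker : f.ker = Subgroup.centralizer ({x} : Set T) := by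
    ext q
    rw [MonoidHom.mem_ker, Subgroup.mem_centralizer_singleton_iff, ← commutatorElement_eq_one_iff_mul_comm,
      h.comm_symm q x, Subtype.ext_iff]
    rfl
  have hinv : ∀ z ∈ f.range.map (Subgroup.center T).subtype,
      ρ z ∈ f.range.map (Subgroup.center T).subtype := by
    rintro _ ⟨_, ⟨q, rfl⟩, rfl⟩
    refine ⟨_, ⟨ρ (ρ q), rfl⟩, ?_⟩
    show ⁅x, ρ (ρ q)⁆ = ρ ⁅x, q⁆
    rw [(h.comm_apply_right x (ρ q)).1, (h.comm_apply_right x q).1, h.three]
  have hm := SylL34.card_mod_three h.three h.fpf _ hinv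
  rw [Subgroup.card_map_of_injective (Subgroup.center T).subtype_injective] at hm
  have hd : Nat.card f.range ∣ 4 := h.card_center ▸ Subgroup.card_subgroup_dvd_card f.range
  have h1 : Nat.card f.range ≠ 1 := fun e => hx (Subgroup.mem_center_iff.2 fun q => by
    have : f q ∈ f.range := ⟨q, rfl⟩
    rw [Subgroup.eq_bot_of_card_eq _ e, Subgroup.mem_bot, ← MonoidHom.mem_ker, hker,
      Subgroup.mem_centralizer_singleton_iff] at this
    exact this)
  have h4 : Nat.card f.range = 4 := by
    have hle4 := Nat.le_of_dvd (by norm_num) hd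
    have hpos : 0 < Nat.card f.range := Nat.card_pos
    unfold Nat.ModEq at hm
    interval_cases (Nat.card f.range) <;> simp_all
  have := f.ker.card_mul_index
  rw [Subgroup.index_ker, h.card, hker, h4] at this
  omega

theorem center_eq (h : SylL34.Fpf T ρ) {z : T} (hz : z ∈ Subgroup.center T) (hz1 : z ≠ 1)
    [DecidableEq T] :
    ({1, z, ρ z, ρ (ρ z)} : Finset T) = Finset.univ.filter (· ∈ Subgroup.center T) := by
  classical
  refine Finset.eq_of_subset_of_card_le ?_ ?_
  · intro a ha
    simp only [Finset.mem_insert, Finset.mem_singleton] at ha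
    simp only [Finset.mem_filter, Finset.mem_univ, true_and]
    rcases ha with rfl | rfl | rfl | rfl
    exacts [one_mem _, hz, SylL34.Fpf.apply_mem_center ρ hz, SylL34.Fpf.apply_mem_center ρ (SylL34.Fpf.apply_mem_center ρ hz)]
  · have d1 : ρ z ≠ z := fun e => hz1 (h.fpf _ e)
    have d2 : ρ (ρ z) ≠ ρ z := fun e => d1 (ρ.injective e)
    have d3 : ρ (ρ z) ≠ z := fun e => d1 (by
      have := congrArg ρ e
      rwa [h.three, eq_comm] at this)
    have n1 : ρ z ≠ 1 := fun e => hz1 ((map_eq_one_iff ρ ρ.injective).1 e)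
    have n2 : ρ (ρ z) ≠ 1 := fun e => n1 ((map_eq_one_iff ρ ρ.injective).1 e)
    rw [Finset.card_insert_of_notMem (by simp [hz1.symm, n1.symm, n2.symm]),
      Finset.card_insert_of_notMem (by simp [d1.symm, d3.symm]), Finset.card_pair d2.symm,
      ← Fintype.card_subtype, ← Nat.card_eq_fintype_card, h.card_center]

section Classify

open scoped Classical

theorem sum_normSq_col (x : T) :
    ∑ χ : IrrCharacter T, Complex.normSq (χ.1 x) = Nat.card (Subgroup.centralizer ({x} : Set T)) := by
  have := Char.sum_irr_mul_conj x x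
  rw [if_pos (IsConj.refl x)] at this
  simp only [Complex.mul_conj] at this
  exact_mod_cast this

theorem sum_normSq_row (χ : IrrCharacter T) :
    ∑ x : T, Complex.normSq (χ.1 x) = Nat.card T := by
  have := Char.classInner_irr_self χ.2
  rw [classInner, inv_mul_eq_iff_eq_mul₀ Char.card_ne_zero, mul_one] at this
  simp only [Complex.mul_conj] at this
  exact_mod_cast this

theorem linear_apply_center (h : SylL34.Fpf T ρ) {χ : IrrCharacter T} (h1 : χ.1 1 = 1) {z : T}
    (hz : z ∈ Subgroup.center T) : χ.1 z = 1 := by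
  obtain ⟨lam, hl⟩ := Char.IsCharacter.exists_monoidHom (Char.irr_isCharacter χ) h1
  rw [← hl, ← commutator_eq_center h] at *
  have hle : commutator T ≤ lam.toHomUnits.ker := Abelianization.commutator_subset_ker _
  exact congrArg Units.val (MonoidHom.mem_ker.1 (hle hz))

theorem trivOn_iff (h : SylL34.Fpf T ρ) (χ : IrrCharacter T) :
    Char.TrivOn (Subgroup.center T) χ.1 ↔ χ.1 1 = 1 := by
  set A := Finset.univ.filter fun χ : IrrCharacter T => Char.TrivOn (Subgroup.center T) χ.1
  set B := Finset.univ.filter fun χ : IrrCharacter T => χ.1 1 = 1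
  have hBA : B ⊆ A := fun χ hχ => by
    simp only [A, B, Finset.mem_filter, Finset.mem_univ, true_and] at hχ ⊢
    exact fun z hz => by rw [linear_apply_center h hχ hz, hχ]
  have hidx : (Subgroup.center T).index = 16 := by
    have := (Subgroup.center T).card_mul_index
    rw [h.card, h.card_center] at this
    omega
  have hA : A.card ≤ 16 := by
    rw [← hidx, ← Char.sum_trivOn_degree_sq]
    exact Finset.card_eq_sum_ones A ▸ Finset.sum_le_sum fun χ _ =>
      Nat.one_le_pow _ _ (Char.charDegree_pos χ)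
  have hB : B.card = 16 := by
    rw [← hidx, ← commutator_eq_center h, ← Char.card_linear, Nat.card_eq_fintype_card,
      Fintype.card_subtype]
  have heq : B = A := Finset.eq_of_subset_of_card_le hBA (hB ▸ hA)
  have : χ ∈ A ↔ χ ∈ B := by rw [heq]
  simpa [A, B] using this

/-- The shape of a non-linear character. -/
theorem nonlinear (h : SylL34.Fpf T ρ) {χ : IrrCharacter T} (h1 : χ.1 1 ≠ 1) :
    (∀ x, x ∉ Subgroup.center T → χ.1 x = 0) ∧
      (∀ z ∈ Subgroup.center T, Complex.normSq (χ.1 z) = 16) ∧ χ.1 1 = 4 := by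
  have hoff : ∀ x, x ∉ Subgroup.center T → χ.1 x = 0 := by
    intro x hx
    set B := Finset.univ.filter fun χ : IrrCharacter T => χ.1 1 = 1
    have hB : B.card = 16 := by
      have hidx := (Subgroup.center T).card_mul_index
      rw [h.card, h.card_center, ← commutator_eq_center h, ← Char.card_linear, Nat.card_eq_fintype_card,
        Fintype.card_subtype] at hidx
      change 4 * B.card = 64 at hidx
      omega
    have hsum := sum_normSq_col x
    rw [card_centralizer h hx, ← Finset.sum_sdiff (Finset.subset_univ B)] at hsum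
    have hlin : ∑ ψ ∈ B, Complex.normSq (ψ.1 x) = 16 := by
      rw [Finset.sum_congr rfl (g := fun _ => (1 : ℝ)) fun ψ hψ => ?_, Finset.sum_const, hB]
      · simp
      obtain ⟨lam, hl⟩ :=
        Char.IsCharacter.exists_monoidHom (Char.irr_isCharacter ψ) (Finset.mem_filter.1 hψ).2
      have := Char.normSq_linear lam x
      rw [Complex.mul_conj] at this
      rw [← hl]
      exact_mod_cast this
    rw [hlin] at hsum
    push_cast at hsum
    have h0 : ∑ ψ ∈ Finset.univ \ B, Complex.normSq (ψ.1 x) = 0 := by linarith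
    exact Complex.normSq_eq_zero.1 ((Finset.sum_eq_zero_iff_of_nonneg
      fun ψ _ => Complex.normSq_nonneg (ψ.1 x)).1 h0 χ (by simp [B, h1]))
  have hnorm : ∀ z ∈ Subgroup.center T, Complex.normSq (χ.1 z) = Complex.normSq (χ.1 1) := by
    intro z hz
    obtain ⟨n, π, hπ, he⟩ := χ.2
    haveI := hπ
    rw [Complex.normSq_eq_norm_sq, Complex.normSq_eq_norm_sq, ← he,
      (CharInt.norm_eq_iff_scalar π z).2 (CharInt.exists_smul_one_of_mem_center (ρ := π) hz)]
  have hsum := sum_normSq_row χ
  rw [h.card, ← Finset.sum_subset (Finset.subset_univ (Finset.univ.filter (· ∈ Subgroup.center T)))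
    fun x _ hx => by rw [hoff x (fun e => hx (by simp [e])), map_zero],
    Finset.sum_congr rfl fun z hz => hnorm z (Finset.mem_filter.1 hz).2, Finset.sum_const,
    ← Fintype.card_subtype, ← Nat.card_eq_fintype_card, h.card_center, nsmul_eq_mul] at hsum
  obtain ⟨d, hd⟩ := Char.IsCharacter.apply_one (Char.irr_isCharacter χ)
  rw [hd, Complex.normSq_natCast] at hsum
  have hd2 : d * d = 16 := by
    have h2 : (4 : ℝ) * (d * d) = 64 := by exact_mod_cast hsum
    have h3 : ((d * d : ℕ) : ℝ) = ((16 : ℕ) : ℝ) := by push_cast; linarith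
    exact_mod_cast h3
  have hd4 : d = 4 := by nlinarith
  subst hd4
  refine ⟨hoff, fun z hz => ?_, by simpa using hd⟩
  rw [hnorm z hz, hd, Complex.normSq_natCast]
  norm_num

theorem sum_center_eq_neg (h : SylL34.Fpf T ρ) {χ : IrrCharacter T} (h1 : χ.1 1 ≠ 1) {z : T}
    (hz : z ∈ Subgroup.center T) (hz1 : z ≠ 1) :
    χ.1 z + χ.1 (ρ z) + χ.1 (ρ (ρ z)) = -4 := by
  obtain ⟨hoff, -, h4⟩ := nonlinear h h1
  have hne : χ ≠ Char.trivialChar T := fun e => h1 (by rw [e, Char.trivialChar_apply])
  have hs := Char.sum_apply_eq_zero hne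
  rw [← Finset.sum_subset (Finset.subset_univ (Finset.univ.filter (· ∈ Subgroup.center T)))
    fun x _ hx => hoff x (fun e => hx (by simp [e])), ← center_eq h hz hz1] at hs
  have d1 : ρ z ≠ z := fun e => hz1 (h.fpf _ e)
  have d2 : ρ (ρ z) ≠ ρ z := fun e => d1 (ρ.injective e)
  have d3 : ρ (ρ z) ≠ z := fun e => d1 (by
    have := congrArg ρ e
    rwa [h.three, eq_comm] at this)
  have n1 : ρ z ≠ 1 := fun e => hz1 ((map_eq_one_iff ρ ρ.injective).1 e)
  have n2 : ρ (ρ z) ≠ 1 := fun e => n1 ((map_eq_one_iff ρ ρ.injective).1 e)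
  rw [Finset.sum_insert (by simp [hz1.symm, n1.symm, n2.symm]),
    Finset.sum_insert (by simp [d1.symm, d3.symm]), Finset.sum_pair d2.symm, h4] at hs
  linear_combination hs

theorem rot_ne_self (h : SylL34.Fpf T ρ) {χ : IrrCharacter T} (hne : χ ≠ Char.trivialChar T) :
    rot ρ χ ≠ χ := by
  intro e
  have hv : ∀ x, χ.1 (ρ x) = χ.1 x := fun x => by rw [← rot_apply, e]
  by_cases h1 : χ.1 1 = 1
  · obtain ⟨lam, hl⟩ := Char.IsCharacter.exists_monoidHom (Char.irr_isCharacter χ) h1
    refine hne (Subtype.ext (funext fun g => ?_))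
    obtain ⟨x, rfl⟩ := (SylL34.inv_mul_bijective h.fpf).2 g
    rw [Char.trivialChar_apply, ← hl, map_mul, show lam (ρ x) = lam x by rw [hl, hv], ← map_mul,
      inv_mul_cancel, map_one]
  · haveI : Nontrivial (Subgroup.center T) :=
      Finite.one_lt_card_iff_nontrivial.1 (by rw [h.card_center]; norm_num)
    obtain ⟨z, hz⟩ := exists_ne (1 : Subgroup.center T)
    have hz1 : (z : T) ≠ 1 := fun e => hz (Subtype.ext e)
    have hs := sum_center_eq_neg h h1 z.2 hz1
    rw [hv, hv, hv] at hs
    have hn := (nonlinear h h1).2.1 _ z.2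
    rw [show χ.1 (z : T) = -4 / 3 by linear_combination hs / 3] at hn
    norm_num at hn

end Classify

/-- Orbit representatives of the non-trivial irreducible characters. -/
structure Reps (h : SylL34.Fpf T ρ) where
  r : Fin 6 → IrrCharacter T
  deg : ∀ j, (r j).1 1 = if j = 5 then 4 else 1
  ne : ∀ j i, (rot ρ)^[i] (r j) ≠ Char.trivialChar T
  inj : Function.Injective fun p : Fin 6 × Fin 3 => (rot ρ)^[(p.2 : ℕ)] (r p.1)
  surj : ∀ χ, χ = Char.trivialChar T ∨ ∃ p : Fin 6 × Fin 3, (rot ρ)^[(p.2 : ℕ)] (r p.1) = χ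

open scoped Classical in
theorem exists_reps (h : SylL34.Fpf T ρ) : Nonempty (Reps h) := by
  set L := Finset.univ.filter fun χ : IrrCharacter T => χ.1 1 = 1 ∧ χ ≠ Char.trivialChar T with hL
  set N := Finset.univ.filter fun χ : IrrCharacter T => χ.1 1 ≠ 1 with hN
  have hlinall : (Finset.univ.filter fun χ : IrrCharacter T => χ.1 1 = 1).card = 16 := by
    have hidx := (Subgroup.center T).card_mul_index
    rw [h.card, h.card_center, ← commutator_eq_center h, ← Char.card_linear, Nat.card_eq_fintype_card,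
      Fintype.card_subtype] at hidx
    omega
  have hLc : L.card = 3 * 5 := by
    have he : L = (Finset.univ.filter fun χ : IrrCharacter T => χ.1 1 = 1).erase (Char.trivialChar T) := by
      ext χ; simp [hL, and_comm]
    rw [he, Finset.card_erase_of_mem (by simp), hlinall]
  have hNc : N.card = 3 * 1 := by
    have hs := Char.sum_degree_sq (G := T)
    rw [h.card, ← Finset.sum_sdiff (Finset.subset_univ N)] at hs
    have hdeg : ∀ {χ : IrrCharacter T} {n : ℕ}, χ.1 1 = n → Char.degree χ = n := fun {χ n} e => by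
      rw [Char.apply_one_eq_degree] at e
      exact_mod_cast e
    rw [Finset.sum_congr rfl (g := fun _ => 1) (fun χ hχ => by
        rw [hdeg (n := 1) (by simpa [hN] using hχ), one_pow]),
      Finset.sum_congr rfl (s₁ := N) (g := fun _ => 16) (fun χ hχ => by
        rw [hdeg (n := 4) (by simpa using (nonlinear h (Finset.mem_filter.1 hχ).2).2.2)]
        norm_num),
      show Finset.univ \ N = Finset.univ.filter fun χ : IrrCharacter T => χ.1 1 = 1 by
        ext; simp [hN],
      Finset.sum_const, Finset.sum_const, hlinall, smul_eq_mul, smul_eq_mul] at hs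
    omega
  have hdrot : ∀ χ : IrrCharacter T, (rot ρ χ).1 1 = χ.1 1 := fun χ => by rw [rot_apply, map_one]
  have hnerot : ∀ χ : IrrCharacter T, χ ≠ Char.trivialChar T → rot ρ χ ≠ Char.trivialChar T :=
    fun χ hχ e => hχ (by
      rw [← rot_cube h χ, e]
      exact Subtype.ext (funext fun x => rfl))
  obtain ⟨a, ha, hai⟩ := exists_orbit_reps (rot ρ) (rot_cube h) 5 L hLc
    (fun χ hχ => by
      simp only [hL, Finset.mem_filter, Finset.mem_univ, true_and] at hχ ⊢
      exact ⟨hdrot χ ▸ hχ.1, hnerot χ hχ.2⟩)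
    fun χ hχ => rot_ne_self h (Finset.mem_filter.1 hχ).2.2
  obtain ⟨b, hb, hbi⟩ := exists_orbit_reps (rot ρ) (rot_cube h) 1 N hNc
    (fun χ hχ => by
      simp only [hN, Finset.mem_filter, Finset.mem_univ, true_and] at hχ ⊢
      rwa [hdrot χ])
    fun χ hχ => rot_ne_self h fun e => (Finset.mem_filter.1 hχ).2 (by rw [e, Char.trivialChar_apply])
  have hamem : ∀ j i, ((rot ρ)^[i] (a j)).1 1 = 1 ∧ (rot ρ)^[i] (a j) ≠ Char.trivialChar T :=
    fun j i => (Finset.mem_filter.1 (ha j i)).2
  have hbmem : ∀ j i, ((rot ρ)^[i] (b j)).1 1 ≠ 1 := fun j i => (Finset.mem_filter.1 (hb j i)).2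
  set r : Fin 6 → IrrCharacter T := Fin.snoc a (b 0) with hr
  have hcast : ∀ j : Fin 5, r j.castSucc = a j := fun j => by rw [hr, Fin.snoc_castSucc]
  have hlast : r (Fin.last 5) = b 0 := by rw [hr, Fin.snoc_last]
  refine ⟨⟨r, fun j => ?_, fun j i => ?_, ?_, fun χ => ?_⟩⟩
  · induction j using Fin.lastCases with
    | last =>
      rw [hlast, if_pos (show Fin.last 5 = (5 : Fin 6) from rfl)]
      exact (nonlinear h (hbmem 0 0)).2.2
    | cast j =>
      rw [hcast, if_neg (show j.castSucc ≠ (5 : Fin 6) from (Fin.castSucc_lt_last j).ne)]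
      exact (hamem j 0).1
  · induction j using Fin.lastCases with
    | last => rw [hlast]; exact fun e => hbmem 0 i (by rw [e, Char.trivialChar_apply])
    | cast j => rw [hcast]; exact (hamem j i).2
  · rintro ⟨j, i⟩ ⟨j', i'⟩ e
    dsimp only at e
    induction j using Fin.lastCases with
    | last =>
      induction j' using Fin.lastCases with
      | last =>
        rw [hlast] at e
        obtain ⟨-, rfl⟩ := Prod.ext_iff.1 (@hbi (0, i) (0, i') e)
        rfl
      | cast j' =>
        rw [hlast, hcast] at e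
        exact absurd (e ▸ (hamem j' i').1) (hbmem 0 i)
    | cast j =>
      induction j' using Fin.lastCases with
      | last =>
        rw [hlast, hcast] at e
        exact absurd (e.symm ▸ (hamem j i).1) (hbmem 0 i')
      | cast j' =>
        rw [hcast, hcast] at e
        obtain ⟨rfl, rfl⟩ := Prod.ext_iff.1 (@hai (j, i) (j', i') e)
        rfl
  · by_cases hχ : χ = Char.trivialChar T
    · exact Or.inl hχ
    refine Or.inr ?_
    by_cases h1 : χ.1 1 = 1
    · have himg : Finset.univ.image (fun p : Fin 5 × Fin 3 => (rot ρ)^[(p.2 : ℕ)] (a p.1)) = L :=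
        Finset.eq_of_subset_of_card_le (Finset.image_subset_iff.2 fun p _ => ha p.1 p.2)
          (by rw [hLc, Finset.card_image_of_injective _ hai]; simp)
      obtain ⟨p, -, hp⟩ := Finset.mem_image.1 (himg.symm ▸ (show χ ∈ L by simp [hL, h1, hχ]))
      exact ⟨(p.1.castSucc, p.2), by rw [hcast]; exact hp⟩
    · have himg : Finset.univ.image (fun p : Fin 1 × Fin 3 => (rot ρ)^[(p.2 : ℕ)] (b p.1)) = N :=
        Finset.eq_of_subset_of_card_le (Finset.image_subset_iff.2 fun p _ => hb p.1 p.2)
          (by rw [hNc, Finset.card_image_of_injective _ hbi]; simp)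
      obtain ⟨p, -, hp⟩ := Finset.mem_image.1 (himg.symm ▸ (show χ ∈ N by simp [hN, h1]))
      refine ⟨(Fin.last 5, p.2), ?_⟩
      rw [hlast, ← Subsingleton.elim p.1 0]
      exact hp

namespace Reps

variable {h : SylL34.Fpf T ρ} (C : Reps h)

/-- The function with the given coefficients. -/
noncomputable def fn (c0 : ℤ) (c : Fin 6 → ℤ) : T → ℂ :=
  fun x => (c0 : ℂ) + ∑ j, (c j : ℂ) * (C.r j).1 x

/-- The sum over the orbit. -/
noncomputable def fnB (c0 : ℤ) (c : Fin 6 → ℤ) : T → ℂ :=
  fun x => C.fn c0 c x + C.fn c0 c (ρ x) + C.fn c0 c (ρ (ρ x))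

/-- The orbit sum of a character. -/
noncomputable def orb (j : Fin 6) (x : T) : ℂ :=
  (C.r j).1 x + (C.r j).1 (ρ x) + (C.r j).1 (ρ (ρ x))

theorem fnB_eq (c0 : ℤ) (c : Fin 6 → ℤ) (x : T) :
    C.fnB c0 c x = 3 * (c0 : ℂ) + ∑ j, (c j : ℂ) * C.orb j x := by
  simp only [fnB, fn, orb, mul_add, Finset.sum_add_distrib]
  ring

theorem fn_one (c0 : ℤ) (c : Fin 6 → ℤ) :
    C.fn c0 c 1 = ((c0 + ∑ j, c j * (if j = 5 then 4 else 1) : ℤ) : ℂ) := by
  simp only [fn, C.deg, Int.cast_add, Int.cast_sum, Int.cast_mul]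
  congr 1
  exact Finset.sum_congr rfl fun j _ => by split_ifs <;> simp

theorem isGeneralized_fn (c0 : ℤ) (c : Fin 6 → ℤ) : IsGeneralizedCharacter T (C.fn c0 c) := by
  classical
  have hsum : IsGeneralizedCharacter T (∑ j, (c j : ℂ) • (C.r j).1) :=
    Finset.sum_induction _ (IsGeneralizedCharacter T)
      (fun _ _ ha hb => Char.IsGeneralizedCharacter.add ha hb)
      (by simpa using Char.IsGeneralizedCharacter.intCast_smul (Char.irr_isGeneralized (C.r 0)) 0)
      fun j _ => Char.IsGeneralizedCharacter.intCast_smul (Char.irr_isGeneralized _) _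
  have he : C.fn c0 c = (c0 : ℂ) • (Char.trivialChar T).1 + ∑ j, (c j : ℂ) • (C.r j).1 := by
    funext x
    simp [fn]
  rw [he]
  exact Char.IsGeneralizedCharacter.add
    (Char.IsGeneralizedCharacter.intCast_smul (Char.irr_isGeneralized _) _) hsum

/-- The Gram formula. -/
theorem classInner_fn_fnB (c0 e0 : ℤ) (c e : Fin 6 → ℤ) :
    classInner (C.fn c0 c) (C.fnB e0 e) = ((3 * (c0 * e0) + ∑ j, c j * e j : ℤ) : ℂ) := by
  classical
  have hfn : C.fn c0 c = (c0 : ℂ) • (Char.trivialChar T).1 + ∑ j, (c j : ℂ) • (C.r j).1 := by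
    funext x; simp [fn]
  have hB : C.fnB e0 e = (3 * (e0 : ℂ)) • (Char.trivialChar T).1 +
      ∑ p : Fin 6 × Fin 3, (e p.1 : ℂ) • ((rot ρ)^[(p.2 : ℕ)] (C.r p.1)).1 := by
    funext x
    simp only [fnB_eq, orb, Pi.add_apply, Pi.smul_apply, Finset.sum_apply, smul_eq_mul,
      Char.trivialChar_apply, mul_one, Fintype.sum_prod_type, Fin.sum_univ_three]
    congr 1
    exact Finset.sum_congr rfl fun j _ => by
      simp only [Fin.val_zero, Fin.val_one, Fin.val_two, Function.iterate_zero_apply,
        Function.iterate_succ_apply, rot_apply]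
      ring
  have h0 : ∀ p : Fin 6 × Fin 3, ∀ j,
      classInner (C.r j).1 ((rot ρ)^[(p.2 : ℕ)] (C.r p.1)).1 = if p = (j, 0) then 1 else 0 := by
    intro p j
    rw [Char.classInner_irr]
    refine if_congr ⟨fun e => C.inj e.symm, ?_⟩ rfl rfl
    rintro rfl
    rfl
  have h1 : ∀ p : Fin 6 × Fin 3,
      classInner (Char.trivialChar T).1 ((rot ρ)^[(p.2 : ℕ)] (C.r p.1)).1 = 0 := fun p => by
    rw [Char.classInner_irr, if_neg (C.ne p.1 p.2).symm]
  have h2 : ∀ j, classInner (C.r j).1 (Char.trivialChar T).1 = 0 := fun j => by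
    rw [Char.classInner_irr, if_neg]
    exact C.ne j 0
  rw [hfn, hB, Char.classInner_add_left, Char.classInner_add_right, Char.classInner_add_right,
    Char.classInner_smul_left, Char.classInner_smul_left, Char.classInner_smul_right,
    Char.classInner_irr, if_pos rfl, Char.classInner_sum_left, Char.classInner_sum_left,
    Char.classInner_sum_right]
  simp only [Char.classInner_smul_left, Char.classInner_smul_right, Char.classInner_sum_right, h0,
    h1, h2, mul_zero, Finset.sum_const_zero, zero_add, add_zero, map_intCast, map_mul, map_ofNat,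
    mul_ite, mul_one, Finset.sum_ite_eq', Finset.mem_univ, if_true]
  push_cast
  rw [Finset.sum_congr rfl fun j _ => mul_comm (e j : ℂ) (c j)]
  ring

theorem orb_center {z : T} (hz : z ∈ Subgroup.center T) (hz1 : z ≠ 1) (j : Fin 6) :
    C.orb j z = if j = 5 then -4 else 3 := by
  split_ifs with hj
  · exact sum_center_eq_neg h (by rw [C.deg, if_pos hj]; norm_num) hz hz1
  · have h1 : (C.r j).1 1 = 1 := by rw [C.deg, if_neg hj]
    rw [orb, linear_apply_center h h1 hz, linear_apply_center h h1 (SylL34.Fpf.apply_mem_center ρ hz),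
      linear_apply_center h h1 (SylL34.Fpf.apply_mem_center ρ (SylL34.Fpf.apply_mem_center ρ hz))]
    norm_num

theorem orb_off {x : T} (hx : x ∉ Subgroup.center T) :
    C.orb 5 x = 0 ∧ C.orb 0 x + C.orb 1 x + C.orb 2 x + C.orb 3 x + C.orb 4 x = -1 := by
  classical
  have h5 : (C.r 5).1 1 ≠ 1 := by rw [C.deg, if_pos rfl]; norm_num
  have hnot : ρ x ∉ Subgroup.center T ∧ ρ (ρ x) ∉ Subgroup.center T := by
    constructor <;> intro hm
    · refine hx ?_
      have := SylL34.Fpf.apply_mem_center ρ (SylL34.Fpf.apply_mem_center ρ hm)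
      rwa [h.three] at this
    · refine hx ?_
      have := SylL34.Fpf.apply_mem_center ρ hm
      rwa [h.three] at this
  have ho5 : C.orb 5 x = 0 := by
    obtain ⟨hoff, -, -⟩ := nonlinear h h5
    rw [orb, hoff x hx, hoff _ hnot.1, hoff _ hnot.2, add_zero, add_zero]
  refine ⟨ho5, ?_⟩
  have hx1 : x ≠ 1 := fun e => hx (e ▸ one_mem _)
  have hs := Char.sum_irr_degree_mul x
  have huniv : (Finset.univ : Finset (IrrCharacter T)) = insert (Char.trivialChar T)
      (Finset.univ.image fun p : Fin 6 × Fin 3 => (rot ρ)^[(p.2 : ℕ)] (C.r p.1)) := by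
    refine (Finset.eq_univ_iff_forall.2 fun χ => ?_).symm
    rcases C.surj χ with h | ⟨p, hp⟩
    · exact Finset.mem_insert.2 (Or.inl h)
    · exact Finset.mem_insert.2 (Or.inr (Finset.mem_image.2 ⟨p, Finset.mem_univ _, hp⟩))
  have hnmem : Char.trivialChar T ∉
      Finset.univ.image fun p : Fin 6 × Fin 3 => (rot ρ)^[(p.2 : ℕ)] (C.r p.1) := by
    rw [Finset.mem_image]
    rintro ⟨p, -, hp⟩
    exact C.ne _ _ hp
  rw [if_neg hx1, huniv, Finset.sum_insert hnmem, Finset.sum_image fun p _ q _ e => C.inj e,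
    Fintype.sum_prod_type] at hs
  simp only [Fin.sum_univ_six, Fin.sum_univ_three, Fin.val_zero, Fin.val_one, Fin.val_two,
    Function.iterate_zero_apply, Function.iterate_succ_apply, rot_apply,
    map_one, C.deg, Char.trivialChar_apply, one_mul] at hs
  simp only [orb] at ho5 ⊢
  norm_num [Fin.ext_iff] at hs
  linear_combination hs - 4 * ho5

/-- The orbit sums for the two functions used. -/
theorem fnB_center_sum {x : T} (hx1 : x ≠ 1) :
    (C.fnB 63 ![-3, -3, -3, -3, -3, -12] x = 192) ∧
    (x ∈ Subgroup.center T → C.fnB 1 ![3, 3, 3, 3, 3, -4] x = 64) ∧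
    (x ∉ Subgroup.center T → C.fnB 1 ![3, 3, 3, 3, 3, -4] x = 0) := by
  simp only [fnB_eq, Fin.sum_univ_six]
  by_cases hx : x ∈ Subgroup.center T
  · refine ⟨?_, fun _ => ?_, fun h => absurd hx h⟩ <;>
      simp [C.orb_center hx hx1] <;> norm_num [Fin.ext_iff]
  · obtain ⟨h5, h4⟩ := C.orb_off hx
    refine ⟨?_, fun h => absurd h hx, fun _ => ?_⟩ <;> simp [h5]
    · linear_combination (-3 : ℂ) * h4
    · linear_combination (3 : ℂ) * h4

end Reps

end Cfsg.Agent.TwoNilCent.U34
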