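import Cfsg.Agent.Lib.SylL34.U34
import Cfsg.Agent.Lib.PCore.Basic
import Cfsg.Agent.Lib.Transfer.Residual
import Cfsg.Prelude.Def_Local

/-!
# A Sylow 2-subgroup of type `U₃(4)` with 2-nilpotent involution centralisers: local facts

`C(x) = θ(x) C_S(x)` for `x ∈ S`, fusion of the involutions in `N(S)`, and the fixed-point-free
automorphism of order 3 given by an element of `N(S)` moving an involution.
-/

set_option autoImplicit false
set_option linter.style.haveILetI false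
set_option linter.unusedSectionVars false

open Subgroup Cfsg

namespace Cfsg.Agent.TwoNilCent.U34

universe u

variable {G : Type u} [Group G]

/-- The odd core of the centraliser. -/
abbrev theta (t : G) : Subgroup G := centralizerPPrimeCore 2 t

/-- The hypotheses carried through the induction, apart from fusion. -/
structure Base (S : Sylow 2 G) : Prop where
  cent : ∀ t : G, orderOf t = 2 → HasNormalPComplement 2 (centralizer ({t} : Set G))
  props : SylL34.U34Props ↥(S : Subgroup G)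

/-- The hypotheses of the induction. -/
structure Hyp (S : Sylow 2 G) : Prop where
  base : Base S
  move : ∃ y ∈ normalizer ((S : Subgroup G) : Set G), ∃ u ∈ (S : Subgroup G),
    orderOf u = 2 ∧ y * u * y⁻¹ ≠ u

theorem orderOf_two_iff {t : G} : orderOf t = 2 ↔ t * t = 1 ∧ t ≠ 1 := by
  haveI : Fact (Nat.Prime 2) := ⟨Nat.prime_two⟩
  rw [← pow_two]
  refine ⟨fun h => ⟨h ▸ pow_orderOf_eq_one t, fun e => ?_⟩, fun h => orderOf_eq_prime h.1 h.2⟩
  rw [e, orderOf_one] at h
  omega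

theorem odd_orderOf_conj {g y : G} : Odd (orderOf (g * y * g⁻¹)) ↔ Odd (orderOf y) := by
  rw [← MulAut.conj_apply, MulEquiv.orderOf_eq]

theorem eq_one_of_two_of_odd [Finite G] {P : Subgroup G} (hP : IsPGroup 2 P) {w : G} (hw : w ∈ P)
    (ho : Odd (orderOf w)) : w = 1 := by
  haveI : Fact (Nat.Prime 2) := ⟨Nat.prime_two⟩
  obtain ⟨k, hk⟩ := IsPGroup.iff_orderOf.1 hP ⟨w, hw⟩
  rw [Subgroup.orderOf_mk] at hk
  rcases k with _ | k
  · exact orderOf_eq_one_iff.1 hk
  · rw [hk] at ho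
    exact absurd ho (Nat.not_odd_iff_even.2 ⟨2 ^ k, by rw [pow_succ]; ring⟩)

variable [Finite G] [Fact (Nat.Prime 2)]

theorem mem_theta {t : G} (h : HasNormalPComplement 2 (centralizer ({t} : Set G))) {y : G} :
    y ∈ theta t ↔ Commute y t ∧ Odd (orderOf y) := by
  constructor
  · rintro ⟨c, hc, rfl⟩
    refine ⟨mem_centralizer_singleton_iff.1 c.2, ?_⟩
    rw [coe_subtype, orderOf_coe]
    exact (Nat.coprime_two_right.1 PCore.coprime_card_pPrimeCore).of_dvd_nat
      (orderOf_dvd_natCard _ hc)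
  · rintro ⟨hc, ho⟩
    refine ⟨⟨y, mem_centralizer_singleton_iff.2 hc.eq⟩, ?_, rfl⟩
    haveI := Transfer.pResidual_normal (G := centralizer ({t} : Set G)) 2
    refine PCore.le_pPrimeCore (N := pResidual 2 (centralizer ({t} : Set G))) ?_ ?_
    · exact Nat.coprime_two_right.2 (Nat.not_even_iff_odd.1 fun he =>
        Transfer.hasNormalPComplement_iff.1 h he.two_dvd)
    · rw [Transfer.mem_pResidual_iff h, Subgroup.orderOf_mk]
      exact Nat.coprime_two_right.2 ho

variable {S : Sylow 2 G}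

theorem exists_conj_mem {t : G} (ht : orderOf t = 2) : ∃ g : G, g * t * g⁻¹ ∈ (S : Subgroup G) := by
  have hp : IsPGroup 2 (zpowers t) :=
    IsPGroup.of_card (n := 1) (by rw [Nat.card_zpowers, ht, pow_one])
  obtain ⟨Q, hQ⟩ := hp.exists_le_sylow
  obtain ⟨g, rfl⟩ := MulAction.exists_smul_eq G S Q
  refine ⟨g⁻¹, ?_⟩
  have := hQ (mem_zpowers t)
  rw [Sylow.coe_subgroup_smul, mem_pointwise_smul_iff_inv_smul_mem] at this
  simpa using this

/-- An involution in `⟨x⟩`. -/
noncomputable def invOf (x : G) : G := by classical exact if x * x = 1 then x else x * x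

omit [Finite G] [Fact (Nat.Prime 2)] in
theorem commute_invOf {g x : G} (h : Commute g x) : Commute g (invOf x) := by
  classical
  rw [invOf]
  split_ifs
  · exact h
  · exact h.mul_right h

namespace Base

variable (hS : Base S)
include hS

theorem commute_involution {u s : G} (hu : u ∈ (S : Subgroup G)) (hu2 : orderOf u = 2)
    (hs : s ∈ (S : Subgroup G)) : Commute s u :=
  congrArg Subtype.val (mem_center_iff.1
    (hS.props.central ⟨u, hu⟩ (Subtype.ext (orderOf_two_iff.1 hu2).1)) ⟨s, hs⟩)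

theorem invOf_spec {x : G} (hx : x ∈ (S : Subgroup G)) (hx1 : x ≠ 1) :
    invOf x ∈ (S : Subgroup G) ∧ orderOf (invOf x) = 2 := by
  classical
  rw [invOf]
  split_ifs with h
  · exact ⟨hx, orderOf_two_iff.2 ⟨h, hx1⟩⟩
  · exact ⟨mul_mem hx hx,
      orderOf_two_iff.2 ⟨congrArg Subtype.val (hS.props.sq_sq ⟨x, hx⟩), h⟩⟩

theorem cent_mem {x : G} (hx : x ∈ (S : Subgroup G)) (hx1 : x ≠ 1) :
    HasNormalPComplement 2 (centralizer ({x} : Set G)) := by
  refine Transfer.hasNormalPComplement_of_le (fun g hg => ?_) (hS.cent _ (hS.invOf_spec hx hx1).2)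
  exact mem_centralizer_singleton_iff.2
    (commute_invOf (show Commute g x from mem_centralizer_singleton_iff.1 hg)).eq

theorem mem_theta' {x : G} (hx : x ∈ (S : Subgroup G)) (hx1 : x ≠ 1) {y : G} :
    y ∈ theta x ↔ Commute y x ∧ Odd (orderOf y) := mem_theta (hS.cent_mem hx hx1)

theorem conj_mem_theta {t g y : G} (ht : orderOf t = 2) (hy : y ∈ theta t) :
    g * y * g⁻¹ ∈ theta (g * t * g⁻¹) := by
  have ht' : orderOf (g * t * g⁻¹) = 2 := by rw [← MulAut.conj_apply, MulEquiv.orderOf_eq, ht]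
  rw [mem_theta (hS.cent _ ht')]
  rw [mem_theta (hS.cent _ ht)] at hy
  exact ⟨(Commute.conj_iff g).2 hy.1, odd_orderOf_conj.2 hy.2⟩

theorem eq_one_of_mem_theta {t w : G} (ht : orderOf t = 2) (hw : w ∈ theta t)
    (hwS : w ∈ (S : Subgroup G)) : w = 1 :=
  eq_one_of_two_of_odd S.2 hwS ((mem_theta (hS.cent _ ht)).1 hw).2

/-- An odd element centralising an involution of `S` centralises the elements of `S` it keeps in `S`. -/
theorem commute_of_conj_mem {u w s : G} (hu : u ∈ (S : Subgroup G)) (hu2 : orderOf u = 2)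
    (hw : w ∈ theta u) (hs : s ∈ (S : Subgroup G)) (h : w * s * w⁻¹ ∈ (S : Subgroup G)) :
    Commute w s := by
  have hsu := hS.commute_involution hu hu2 hs
  have h1 : s⁻¹ * w * s * w⁻¹ ∈ theta u := by
    refine mul_mem ?_ (inv_mem hw)
    have := hS.conj_mem_theta (g := s⁻¹) hu2 hw
    rwa [hsu.inv_left.eq, mul_inv_cancel_right, inv_inv] at this
  have h2 : s⁻¹ * w * s * w⁻¹ = 1 := hS.eq_one_of_mem_theta hu2 h1 (by
    rw [show s⁻¹ * w * s * w⁻¹ = s⁻¹ * (w * s * w⁻¹) by group]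
    exact mul_mem (inv_mem hs) h)
  show w * s = s * w
  calc w * s = s * (s⁻¹ * w * s * w⁻¹) * w := by group
    _ = s * w := by rw [h2, mul_one]

/-- `C(u) = θ(u) S` for an involution `u` of `S`. -/
theorem split {u g : G} (hu : u ∈ (S : Subgroup G)) (hu2 : orderOf u = 2) (hg : Commute g u) :
    ∃ w ∈ theta u, ∃ s ∈ (S : Subgroup G), g = w * s := by
  set C := centralizer ({u} : Set G) with hC
  have hSC : (S : Subgroup G) ≤ C := fun s hs =>
    mem_centralizer_singleton_iff.2 (hS.commute_involution hu hu2 hs).eq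
  set T := pPrimeCore 2 C with hT
  have hp : IsPGroup 2 (C ⧸ T) := by
    intro q
    obtain ⟨y, rfl⟩ := QuotientGroup.mk_surjective q
    obtain ⟨a, b, hb, hab⟩ : ∃ a b, ¬ 2 ∣ b ∧ orderOf y = 2 ^ a * b :=
      Nat.exists_eq_pow_mul_and_not_dvd (orderOf_pos y).ne' 2 (by norm_num)
    refine ⟨a, ?_⟩
    rw [← QuotientGroup.mk_pow, QuotientGroup.eq_one_iff]
    have hmem : ((y ^ 2 ^ a : C) : G) ∈ theta u := by
      rw [mem_theta (hS.cent _ hu2), orderOf_coe, orderOf_pow_of_dvd (pow_ne_zero _ two_ne_zero)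
        (hab ▸ dvd_mul_right _ _), hab, Nat.mul_div_cancel_left _ (by positivity)]
      exact ⟨mem_centralizer_singleton_iff.1 (y ^ 2 ^ a : C).2,
        Nat.odd_iff.2 (Nat.two_dvd_ne_zero.1 hb)⟩
    obtain ⟨c, hc, he⟩ := hmem
    rwa [← Subtype.ext he]
  have htop : T ⊔ (S.subtype hSC : Subgroup C) = ⊤ := by
    have h1 : (T ⊔ (S.subtype hSC : Subgroup C)).index ∣ T.index := index_dvd_of_le le_sup_left
    have h2 : (T ⊔ (S.subtype hSC : Subgroup C)).index ∣ (S.subtype hSC : Subgroup C).index :=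
      index_dvd_of_le le_sup_right
    obtain ⟨j, hj⟩ := IsPGroup.iff_card.1 hp
    rw [index_eq_card T, hj] at h1
    exact index_eq_one.1 (Nat.eq_one_of_dvd_coprimes
      (((Nat.Prime.coprime_iff_not_dvd Nat.prime_two).2 (S.subtype hSC).not_dvd_index).pow_left j) h1 h2)
  obtain ⟨w, hw, s, hs, he⟩ := Subgroup.mem_sup_of_normal_left.1
    (show (⟨g, mem_centralizer_singleton_iff.2 hg.eq⟩ : C) ∈ T ⊔ (S.subtype hSC : Subgroup C) from
      htop ▸ mem_top _)
  refine ⟨(w : G), ⟨w, hw, rfl⟩, (s : G), ?_, congrArg Subtype.val he.symm⟩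
  rw [Sylow.coe_subtype, mem_subgroupOf] at hs
  exact hs

/-- An element centralising `u` that conjugates `x ∈ S` into `S`. -/
theorem split_conj {u g x : G} (hu : u ∈ (S : Subgroup G)) (hu2 : orderOf u = 2)
    (hg : Commute g u) (hx : x ∈ (S : Subgroup G)) (hgx : g * x * g⁻¹ ∈ (S : Subgroup G)) :
    ∃ w ∈ theta u, ∃ s ∈ (S : Subgroup G),
      g = w * s ∧ Commute w (s * x * s⁻¹) ∧ g * x * g⁻¹ = s * x * s⁻¹ := by
  obtain ⟨w, hw, s, hs, rfl⟩ := hS.split hu hu2 hg
  have he : w * s * x * (w * s)⁻¹ = w * (s * x * s⁻¹) * w⁻¹ := by group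
  rw [he] at hgx
  have hc := hS.commute_of_conj_mem hu hu2 hw (mul_mem (mul_mem hs hx) (inv_mem hs)) hgx
  exact ⟨w, hw, s, hs, rfl, hc, by rw [he, hc.eq, mul_inv_cancel_right]⟩

/-- `C(x) = θ(x) C_S(x)`. -/
theorem split_mem {x g : G} (hx : x ∈ (S : Subgroup G)) (hx1 : x ≠ 1) (hg : Commute g x) :
    ∃ w ∈ theta x, ∃ s ∈ (S : Subgroup G), Commute s x ∧ g = w * s := by
  obtain ⟨hz, hz2⟩ := hS.invOf_spec hx hx1
  have hgx : g * x * g⁻¹ = x := by rw [hg.eq, mul_inv_cancel_right]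
  obtain ⟨w, hw, s, hs, hgws, hc, he⟩ :=
    hS.split_conj hz hz2 (commute_invOf hg) hx (by rw [hgx]; exact hx)
  rw [hgx] at he
  have hsx : Commute s x := mul_inv_eq_iff_eq_mul.1 he.symm
  rw [← he] at hc
  exact ⟨w, (hS.mem_theta' hx hx1).2 ⟨hc, ((mem_theta (hS.cent _ hz2)).1 hw).2⟩, s, hs, hsx, hgws⟩

/-- Fusion of involutions of `S` takes place in the normaliser. -/
theorem fusion {u v g : G} (hu : u ∈ (S : Subgroup G)) (hu2 : orderOf u = 2)
    (hv : v ∈ (S : Subgroup G)) (h : g * u * g⁻¹ = v) :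
    ∃ k ∈ normalizer ((S : Subgroup G) : Set G), k * u * k⁻¹ = v := by
  set C := centralizer ({v} : Set G) with hC
  have hv2 : orderOf v = 2 := by rw [← h, ← MulAut.conj_apply, MulEquiv.orderOf_eq, hu2]
  have hSC : (S : Subgroup G) ≤ C := fun s hs =>
    mem_centralizer_singleton_iff.2 (hS.commute_involution hv hv2 hs).eq
  have hgC : ((g • S : Sylow 2 G) : Subgroup G) ≤ C := fun p hp => by
    rw [Sylow.coe_subgroup_smul, mem_pointwise_smul_iff_inv_smul_mem] at hp
    have h1 : Commute (g⁻¹ * p * g) u := by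
      have := hS.commute_involution hu hu2 hp
      simpa using this
    refine mem_centralizer_singleton_iff.2 ?_
    have h2 := (Commute.conj_iff g).2 h1
    rw [h, show g * (g⁻¹ * p * g) * g⁻¹ = p by group] at h2
    exact h2.eq
  obtain ⟨c, hc⟩ := MulAction.exists_smul_eq C ((g • S).subtype hgC) (S.subtype hSC)
  rw [Sylow.smul_subtype hgC] at hc
  have he : ((c : G) * g) • S = S := by rw [mul_smul]; exact Sylow.subtype_injective hc
  refine ⟨(c : G) * g, Sylow.smul_eq_iff_mem_normalizer.1 he, ?_⟩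
  rw [show (c : G) * g * u * ((c : G) * g)⁻¹ = c * (g * u * g⁻¹) * (c : G)⁻¹ by group, h,
    mem_centralizer_singleton_iff.1 c.2, mul_inv_cancel_right]

/-- An element moving an involution can be taken of odd order. -/
theorem exists_odd {M : Subgroup G} {k u : G} (hk : k ∈ normalizer ((S : Subgroup G) : Set G))
    (hkM : k ∈ M) (hu : u ∈ (S : Subgroup G)) (hu2 : orderOf u = 2) (hne : k * u * k⁻¹ ≠ u) :
    ∃ y ∈ normalizer ((S : Subgroup G) : Set G), y ∈ M ∧ Odd (orderOf y) ∧ y * u * y⁻¹ ≠ u := by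
  obtain ⟨a, b, hb, hab⟩ : ∃ a b, ¬ 2 ∣ b ∧ orderOf k = 2 ^ a * b :=
    Nat.exists_eq_pow_mul_and_not_dvd (orderOf_pos k).ne' 2 (by norm_num)
  have hodd : Odd b := Nat.odd_iff.2 (Nat.two_dvd_ne_zero.1 hb)
  refine ⟨k ^ 2 ^ a, pow_mem hk _, pow_mem hkM _, ?_, fun e => hne ?_⟩
  · rwa [orderOf_pow_of_dvd (pow_ne_zero _ two_ne_zero) (hab ▸ dvd_mul_right _ _), hab,
      Nat.mul_div_cancel_left _ (by positivity)]
  have hb0 : b ≠ 0 := fun h => hb (h ▸ dvd_zero 2)
  have hq : IsPGroup 2 (zpowers (k ^ b)) := IsPGroup.of_card (n := a) (by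
    rw [Nat.card_zpowers, orderOf_pow_of_dvd hb0 (hab ▸ dvd_mul_left _ _), hab,
      Nat.mul_div_cancel _ (Nat.pos_of_ne_zero hb0)])
  have hkb : k ^ b ∈ (S : Subgroup G) :=
    (hq.inf_normalizer_sylow S).le ⟨mem_zpowers _, pow_mem hk b⟩ |>.2
  have h1 : Commute (k ^ 2 ^ a) u := mul_inv_eq_iff_eq_mul.1 e
  have h2 : Commute (k ^ b) u := hS.commute_involution hu hu2 hkb
  have hco : (2 ^ a).Coprime b := (Nat.coprime_two_left.2 hodd).pow_left _
  have h3 : Commute k u := by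
    have := (h1.zpow_left (Nat.gcdA (2 ^ a) b)).mul_left (h2.zpow_left (Nat.gcdB (2 ^ a) b))
    rwa [← zpow_natCast, ← zpow_natCast, ← zpow_mul, ← zpow_mul, ← zpow_add, ← Nat.gcd_eq_gcd_ab,
      hco.gcd_eq_one, Nat.cast_one, zpow_one] at this
  rw [h3.eq, mul_inv_cancel_right]

end Base

end Cfsg.Agent.TwoNilCent.U34
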