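import Cfsg.Agent.Lib.TwoNilCent.U34.Local

/-!
# An element of odd order of `N(S)` moving an involution

It permutes the three involutions cyclically and induces a fixed-point-free automorphism of order
three on `S`; any two `G`-conjugate elements of `S` differ by a power of it and an element of `S`.
-/

set_option autoImplicit false
set_option linter.style.haveILetI false
set_option linter.unusedSectionVars false

open Subgroup Cfsg

namespace Cfsg.Agent.TwoNilCent.U34

universe u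

variable {G : Type u} [Group G] [Finite G] [Fact (Nat.Prime 2)] {S : Sylow 2 G}

/-- An odd element of `N(S)` moving an involution of `S`. -/
structure Rot (S : Sylow 2 G) (y : G) : Prop where
  base : Base S
  norm : y ∈ normalizer ((S : Subgroup G) : Set G)
  odd : Odd (orderOf y)
  move : ∃ u ∈ (S : Subgroup G), orderOf u = 2 ∧ y * u * y⁻¹ ≠ u

/-- Conjugation on `S` by an element of its normaliser. -/
noncomputable def conjAut (y : G) (h : y ∈ normalizer ((S : Subgroup G) : Set G)) :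
    MulAut ↥(S : Subgroup G) where
  toFun x := ⟨y * x * y⁻¹, (mem_normalizer_iff.1 h x).1 x.2⟩
  invFun x := ⟨y⁻¹ * x * y, by simpa using (mem_normalizer_iff.1 (inv_mem h) x).1 x.2⟩
  left_inv x := Subtype.ext (by simp [mul_assoc])
  right_inv x := Subtype.ext (by simp [mul_assoc])
  map_mul' a b := Subtype.ext (by simp [mul_assoc])

theorem coe_conjAut {y : G} (h : y ∈ normalizer ((S : Subgroup G) : Set G)) (x : ↥(S : Subgroup G)) :
    ((conjAut y h x : ↥(S : Subgroup G)) : G) = y * x * y⁻¹ := rfl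

theorem Hyp.exists_rot (h : Hyp S) : ∃ y, Rot S y := by
  obtain ⟨k, hk, u, hu, hu2, hne⟩ := h.move
  obtain ⟨y, hy, -, ho, hm⟩ := h.base.exists_odd hk (Subgroup.mem_top k) hu hu2 hne
  exact ⟨y, h.base, hy, ho, u, hu, hu2, hm⟩

namespace Rot

variable {y : G} (R : Rot S y)
include R

theorem conj_mem {x : G} (hx : x ∈ (S : Subgroup G)) : y * x * y⁻¹ ∈ (S : Subgroup G) :=
  (mem_normalizer_iff.1 R.norm x).1 hx

theorem not_fixed {v : G} (hv : v ∈ (S : Subgroup G)) (hv2 : orderOf v = 2) :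
    y * v * y⁻¹ ≠ v := by
  intro e
  obtain ⟨u, hu, hu2, hne⟩ := R.move
  have hy : y ∈ theta v :=
    (mem_theta (R.base.cent _ hv2)).2 ⟨mul_inv_eq_iff_eq_mul.1 e, R.odd⟩
  refine hne ?_
  rw [(R.base.commute_of_conj_mem hv hv2 hy hu (R.conj_mem hu)).eq, mul_inv_cancel_right]

/-- The three involutions of `S`. -/
theorem cycle {v : G} (hv : v ∈ (S : Subgroup G)) (hv2 : orderOf v = 2) :
    y * (y * (y * v * y⁻¹) * y⁻¹) * y⁻¹ = v ∧
      ∀ w ∈ (S : Subgroup G), orderOf w = 2 →
        w = v ∨ w = y * v * y⁻¹ ∨ w = y * (y * v * y⁻¹) * y⁻¹ := by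
  classical
  haveI : Fintype ↥(S : Subgroup G) := Fintype.ofFinite _
  let σ := conjAut y R.norm
  let I := Finset.univ.filter fun x : ↥(S : Subgroup G) => x * x = 1 ∧ x ≠ 1
  have hI : I.card = 3 := by
    have h4 : (Finset.univ.filter fun x : ↥(S : Subgroup G) => x * x = 1).card = 4 := by
      rw [← R.base.props.card_inv, Nat.card_eq_fintype_card, Fintype.card_subtype]
    have : I = (Finset.univ.filter fun x : ↥(S : Subgroup G) => x * x = 1).erase 1 := by
      ext x; simp [I, and_comm]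
    rw [this, Finset.card_erase_of_mem (by simp), h4]
  have hmem : ∀ x : ↥(S : Subgroup G), x ∈ I ↔ orderOf (x : G) = 2 := fun x => by
    rw [orderOf_two_iff]
    simp only [I, Finset.mem_filter, Finset.mem_univ, true_and, Subtype.ext_iff, Subgroup.coe_mul,
      Subgroup.coe_one, ne_eq]
  have hclosed : ∀ x ∈ I, σ x ∈ I := fun x hx => by
    rw [hmem, coe_conjAut, ← MulAut.conj_apply, MulEquiv.orderOf_eq]
    exact (hmem x).1 hx
  have hfix : ∀ x ∈ I, σ x ≠ x := fun x hx e =>
    R.not_fixed x.2 ((hmem x).1 hx) (congrArg Subtype.val e)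
  set a : ↥(S : Subgroup G) := ⟨v, hv⟩ with ha
  have haI : a ∈ I := (hmem a).2 hv2
  have hbI := hclosed a haI
  have hcI := hclosed _ hbI
  have hba : σ a ≠ a := hfix a haI
  have hcb : σ (σ a) ≠ σ a := hfix _ hbI
  have hca : σ (σ a) ≠ a := by
    intro e
    have hlt : ({a, σ a} : Finset ↥(S : Subgroup G)).card < I.card := by
      rw [Finset.card_pair hba.symm, hI]; omega
    obtain ⟨w, hw, hwn⟩ := Finset.exists_mem_notMem_of_card_lt_card hlt
    simp only [Finset.mem_insert, Finset.mem_singleton, not_or] at hwn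
    have hsw := hclosed w hw
    have hle : ({a, σ a, w} : Finset ↥(S : Subgroup G)) = I := by
      refine Finset.eq_of_subset_of_card_le (by simp [Finset.insert_subset_iff, haI, hbI, hw]) ?_
      rw [hI, Finset.card_insert_of_notMem (by simp [hba.symm, Ne.symm hwn.1]),
        Finset.card_pair (Ne.symm hwn.2)]
    rw [← hle] at hsw
    simp only [Finset.mem_insert, Finset.mem_singleton] at hsw
    rcases hsw with h | h | h
    · exact hwn.2 (σ.injective (h.trans e.symm))
    · exact hwn.1 (σ.injective h)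
    · exact hfix w hw h
  have hle : ({a, σ a, σ (σ a)} : Finset ↥(S : Subgroup G)) = I := by
    refine Finset.eq_of_subset_of_card_le (by simp [Finset.insert_subset_iff, haI, hbI, hcI]) ?_
    rw [hI, Finset.card_insert_of_notMem (by simp [hba.symm, hca.symm]),
      Finset.card_pair hcb.symm]
  constructor
  · have h3 := hclosed _ hcI
    rw [← hle] at h3
    simp only [Finset.mem_insert, Finset.mem_singleton] at h3
    rcases h3 with h | h | h
    · exact congrArg Subtype.val h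
    · exact absurd (σ.injective h) hca
    · exact absurd h (hfix _ hcI)
  · intro w hw hw2
    have hwI : (⟨w, hw⟩ : ↥(S : Subgroup G)) ∈ I := (hmem _).2 hw2
    rw [← hle] at hwI
    simp only [Finset.mem_insert, Finset.mem_singleton] at hwI
    rcases hwI with h | h | h
    · exact Or.inl (congrArg Subtype.val h)
    · exact Or.inr (Or.inl (congrArg Subtype.val h))
    · exact Or.inr (Or.inr (congrArg Subtype.val h))

theorem cube_fix {x : G} (hx : x ∈ (S : Subgroup G)) :
    y * (y * (y * x * y⁻¹) * y⁻¹) * y⁻¹ = x := by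
  obtain ⟨u, hu, hu2, -⟩ := R.move
  have h := (R.cycle hu hu2).1
  have e3 : ∀ z : G, y * (y * (y * z * y⁻¹) * y⁻¹) * y⁻¹ = y ^ 3 * z * (y ^ 3)⁻¹ := fun z => by
    rw [show y ^ 3 = y * y * y by simp [pow_succ]]
    simp [mul_assoc]
  rw [e3] at h
  rw [e3]
  have hy : y ^ 3 ∈ theta u := (mem_theta (R.base.cent _ hu2)).2
    ⟨mul_inv_eq_iff_eq_mul.1 h, R.odd.of_dvd_nat (orderOf_pow_dvd 3)⟩
  have hm : y ^ 3 * x * (y ^ 3)⁻¹ ∈ (S : Subgroup G) :=
    (mem_normalizer_iff.1 (pow_mem R.norm 3) x).1 hx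
  rw [(R.base.commute_of_conj_mem hu hu2 hy hx hm).eq, mul_inv_cancel_right]

theorem fpf : SylL34.Fpf ↥(S : Subgroup G) (conjAut y R.norm) where
  card := R.base.props.card
  nonab := R.base.props.nonab
  three x := Subtype.ext (R.cube_fix x.2)
  fpf x hx := by
    by_contra hne
    have hx1 : (x : G) ≠ 1 := fun e => hne (Subtype.ext e)
    have e : y * x * y⁻¹ = (x : G) := congrArg Subtype.val hx
    obtain ⟨hz, hz2⟩ := R.base.invOf_spec x.2 hx1
    refine R.not_fixed hz hz2 ?_
    have := commute_invOf (g := y) (x := (x : G)) (mul_inv_eq_iff_eq_mul.1 e)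
    rw [this.eq, mul_inv_cancel_right]

/-- Fusion in `S`. -/
theorem fusion_elt {x g : G} (hx : x ∈ (S : Subgroup G)) (hx1 : x ≠ 1)
    (hgx : g * x * g⁻¹ ∈ (S : Subgroup G)) :
    ∃ i : Fin 3, ∃ s ∈ (S : Subgroup G),
      g * x * g⁻¹ = y ^ (i : ℕ) * (s * x * s⁻¹) * (y ^ (i : ℕ))⁻¹ := by
  classical
  obtain ⟨hz, hz2⟩ := R.base.invOf_spec hx hx1
  have hg1 : g * x * g⁻¹ ≠ 1 := fun e => hx1 (conj_eq_one_iff.1 e)
  obtain ⟨hw, hw2⟩ := R.base.invOf_spec hgx hg1
  have hiff : g * x * g⁻¹ * (g * x * g⁻¹) = 1 ↔ x * x = 1 := by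
    rw [show g * x * g⁻¹ * (g * x * g⁻¹) = g * (x * x) * g⁻¹ by group, conj_eq_one_iff]
  have hinv : invOf (g * x * g⁻¹) = g * invOf x * g⁻¹ := by
    simp only [invOf, hiff]
    split_ifs
    · rfl
    · group
  rw [hinv] at hw hw2
  obtain ⟨i, hi⟩ : ∃ i : Fin 3,
      g * invOf x * g⁻¹ = y ^ (i : ℕ) * invOf x * (y ^ (i : ℕ))⁻¹ := by
    rcases (R.cycle hz hz2).2 _ hw hw2 with h | h | h
    · exact ⟨0, by simpa using h⟩
    · exact ⟨1, by simpa using h⟩
    · exact ⟨2, by rw [h]; simp [pow_two, mul_assoc]⟩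
  set k := y ^ (i : ℕ) with hk
  have hkn : k ∈ normalizer ((S : Subgroup G) : Set G) := pow_mem R.norm _
  have hcomm : Commute (k⁻¹ * g) (invOf x) := by
    refine mul_inv_eq_iff_eq_mul.1 ?_
    rw [show k⁻¹ * g * invOf x * (k⁻¹ * g)⁻¹ = k⁻¹ * (g * invOf x * g⁻¹) * k by group, hi]
    group
  have hmem : k⁻¹ * g * x * (k⁻¹ * g)⁻¹ ∈ (S : Subgroup G) := by
    have := (mem_normalizer_iff.1 (inv_mem hkn) _).1 hgx
    rwa [show k⁻¹ * g * x * (k⁻¹ * g)⁻¹ = k⁻¹ * (g * x * g⁻¹) * k⁻¹⁻¹ by group]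
  obtain ⟨w, -, s, hs, -, -, he⟩ := R.base.split_conj hz hz2 hcomm hx hmem
  exact ⟨i, s, hs, by rw [← hk, ← he]; group⟩

end Rot

end Cfsg.Agent.TwoNilCent.U34
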