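import Cfsg.Agent.Lib.TwoNilCent.U34.Rho
import Cfsg.Agent.Lib.Blocks.ThirdMain
import Cfsg.Agent.Lib.Blocks.SecondMain
import Cfsg.Agent.Lib.Blocks.PPrimeNormal
import Cfsg.Agent.Lib.Char.KernelSum
import Cfsg.Agent.Lib.ZStar.SectionAverage
import Cfsg.Agent.Lib.ZStar.SecondMain

/-!
# The principal block on the 2-sections of the elements of `S`
-/

set_option autoImplicit false
set_option linter.style.haveILetI false
set_option linter.unusedSectionVars false

open Subgroup Cfsg
open scoped ComplexConjugate Classical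

namespace Cfsg.Agent.TwoNilCent.U34

universe u

variable {G : Type u} [Group G] [Fintype G] [Fact (Nat.Prime 2)] {S : Sylow 2 G} {M : Ideal AlgInt}

theorem exists_orderOf_eq (x : ↥(S : Subgroup G)) : ∃ k, orderOf (x : G) = 2 ^ k := by
  obtain ⟨k, hk⟩ := IsPGroup.iff_orderOf.1 S.2 x
  exact ⟨k, by rw [orderOf_coe, hk]⟩

theorem isPPart_self {g : G} {k : ℕ} (hg : orderOf g = 2 ^ k) : IsPPart 2 g g :=
  ⟨1, mul_one g, Commute.one_right g, ⟨k, hg⟩, by simp⟩

namespace Base

variable (hS : Base S)
include hS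

/-- The principal block is constant on `x θ(x)`. -/
theorem apply_mul (hM : IsPModular 2 M) {x : ↥(S : Subgroup G)} {χ : IrrCharacter G}
    (hχ : χ ∈ principalBlock M G) {w : G} (hw : w ∈ theta (x : G)) :
    χ.1 ((x : G) * w) = χ.1 x := by
  haveI := hM.2.1
  exact Blocks.principal_apply_mul_core hM.2.2 (exists_orderOf_eq x) hw hχ

/-- Outside the principal block the sum over `x θ(x)` vanishes. -/
theorem sum_outside (hM : IsPModular 2 M) {x : ↥(S : Subgroup G)} (hx : (x : G) ≠ 1)
    {χ : IrrCharacter G} (hχ : χ ∉ principalBlock M G) :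
    ∑ w : theta (x : G), χ.1 ((x : G) * w) = 0 := by
  have hmem : ∀ v, v ∈ theta (x : G) ↔ Commute (x : G) v ∧ Odd (orderOf v) := fun v => by
    rw [hS.mem_theta' x.2 hx, Commute.symm_iff]
  rw [← (ZStar.sum_oddCentralizing_apply ZStar.secondPrincipal hM (exists_orderOf_eq x) hmem χ).2 hχ]
  exact (Finset.sum_subtype _ (fun v => ZStar.mem_oddCentralizing.trans (hmem v).symm)
    (fun v => χ.1 ((x : G) * v))).symm

/-- The second orthogonality within the principal block. -/
theorem orth (hM : IsPModular 2 M) {x x' : ↥(S : Subgroup G)} (hx : (x : G) ≠ 1) :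
    ∑ χ ∈ Finset.univ.filter (· ∈ principalBlock M G), χ.1 (x' : G) * conj (χ.1 (x : G)) =
      if IsConj (x : G) x' then (Nat.card (centralizer ({x} : Set ↥(S : Subgroup G))) : ℂ) else 0 := by
  haveI := hM.2.1
  split_ifs with hc
  · set C := centralizer ({(x : G)} : Set G) with hC
    haveI := Fintype.ofFinite C
    have hx' := exists_orderOf_eq x
    have h1 : IsPRegular 2 (1 : C) := by simp [IsPRegular]
    have h := Blocks.second_main_orth hM.2.2 hx' (Blocks.isPBlock_principalBlock hM.2.2 (G := G)) h1 h1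
    simp only [OneMemClass.coe_one, mul_one] at h
    rw [Finset.sum_congr rfl fun χ _ => by
      rw [← Char.IsClassFunction.apply_of_isConj
        (Char.IsCharacter.isClassFunction (Char.irr_isCharacter χ)) hc], h,
      Blocks.inducingSet_principalBlock hM.2.2 hx']
    -- `C(x) = θ(x) C_S(x)`
    set CS := ((S : Subgroup G) ⊓ C).subgroupOf C with hCS
    have hcard : Nat.card CS = Nat.card (centralizer ({x} : Set ↥(S : Subgroup G))) := by
      refine Nat.card_congr
        ⟨fun c => ⟨⟨((c : C) : G), (mem_subgroupOf.1 c.2).1⟩, ?_⟩,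
          fun c => ⟨⟨((c : ↥(S : Subgroup G)) : G), ?_⟩, mem_subgroupOf.2 ⟨(c : ↥(S : Subgroup G)).2, ?_⟩⟩,
          fun c => rfl, fun c => rfl⟩
      · exact mem_centralizer_singleton_iff.2
          (Subtype.ext (mem_centralizer_singleton_iff.1 (c : C).2))
      · exact mem_centralizer_singleton_iff.2 (congrArg Subtype.val (mem_centralizer_singleton_iff.1 c.2))
      · exact mem_centralizer_singleton_iff.2 (congrArg Subtype.val (mem_centralizer_singleton_iff.1 c.2))
    have htheta : ∀ c : C, c ∈ pPrimeCore 2 C ↔ (c : G) ∈ theta (x : G) := fun c =>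
      ⟨fun h => ⟨c, h, rfl⟩, fun ⟨d, hd, e⟩ => Subtype.ext e ▸ hd⟩
    have hcompl : (pPrimeCore 2 C).IsComplement' CS := by
      refine isComplement'_of_disjoint_and_mul_eq_univ ?_ ?_
      · rw [disjoint_def]
        intro c hc1 hc2
        have := (hS.mem_theta' x.2 hx).1 ((htheta c).1 hc1)
        exact Subtype.ext (eq_one_of_two_of_odd S.2 (mem_subgroupOf.1 hc2).1 this.2)
      · refine Set.eq_univ_of_forall fun c => ?_
        obtain ⟨w, hw, s, hs, hsx, e⟩ := hS.split_mem x.2 hx (mem_centralizer_singleton_iff.1 c.2)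
        have hwC : w ∈ C := map_subtype_le _ hw
        have hsC : s ∈ C := mem_centralizer_singleton_iff.2 hsx.eq
        exact ⟨⟨w, hwC⟩, (htheta _).2 hw, ⟨s, hsC⟩, mem_subgroupOf.2 ⟨hs, hsC⟩, Subtype.ext e.symm⟩
    have hidx : (pPrimeCore 2 C).index = Nat.card (centralizer ({x} : Set ↥(S : Subgroup G))) :=
      hcard ▸ hcompl.symm.index_eq_card
    have hpow : ∃ k, (pPrimeCore 2 C).index = 2 ^ k := by
      rw [hidx]
      exact IsPGroup.iff_card.1 (S.2.to_subgroup _)
    rw [Finset.sum_congr (s₂ := Finset.univ.filter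
        fun η : IrrCharacter C => Char.TrivOn (pPrimeCore 2 C) η.1)
        (Finset.filter_congr fun η _ => by
        rw [Blocks.principalBlock_eq_of_index hM.2.2 hpow]; rfl) fun η _ =>
        show η.1 1 * conj (η.1 1) = ((charDegree η.1 ^ 2 : ℕ) : ℂ) by
          rw [← Char.charDegree_cast, map_natCast]; push_cast; ring,
      ← Nat.cast_sum, Char.sum_trivOn_degree_sq, hidx]
  · obtain ⟨k, hk⟩ := exists_orderOf_eq x
    obtain ⟨k', hk'⟩ := exists_orderOf_eq x'
    exact Blocks.block_orthogonality hM.2.2 (isPPart_self hk') (isPPart_self hk)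
      (fun h => hc h.symm) (Blocks.isPBlock_principalBlock hM.2.2)

/-- Against the degrees. -/
theorem orth_one (hM : IsPModular 2 M) {x : ↥(S : Subgroup G)} (hx : (x : G) ≠ 1) :
    ∑ χ ∈ Finset.univ.filter (· ∈ principalBlock M G), χ.1 1 * conj (χ.1 (x : G)) = 0 := by
  haveI := hM.2.1
  obtain ⟨k, hk⟩ := exists_orderOf_eq x
  exact Blocks.block_orthogonality hM.2.2
    (isPPart_self (g := (1 : G)) (k := 0) (by rw [orderOf_one, pow_zero]))
    (isPPart_self hk) (fun h => hx (isConj_one_right.1 h))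
    (Blocks.isPBlock_principalBlock hM.2.2)

end Base

end Cfsg.Agent.TwoNilCent.U34
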